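import Cfsg.Agent.Lib.Fi23P.NThree.Data
import Cfsg.Agent.Lib.Fi23P.NThree.OrbData
import Cfsg.Agent.Lib.Fi23P.PermLevels

/-!
The checks of the data, as functions.
-/

set_option autoImplicit false
set_option maxRecDepth 100000

namespace CfsgLib.Fi23P.NThree

open CfsgLib.PresCert

/-- The bit set of a list. -/
noncomputable def orBits (L : List ℕ) : ℕ :=
  List.rec (motive := fun _ => ℕ) 0 (fun x _ ih => Nat.lor (2 ^ x) ih) L

/-- All the points. -/
noncomputable def fullBits : ℕ := 2 ^ 31671 - 1

/-- The points of a bit set or of its complement, whichever holds the given point. -/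
noncomputable def side (B x : ℕ) : ℕ := bif B.testBit x then B else Nat.xor fullBits B

/-- A point of the chain. -/
noncomputable def pt (k : ℕ) : Pt := chain.getD k ⟨0, [], 0⟩

/-- The points which may be images of a point under an element fixing the chain so far. -/
noncomputable def cls : ℕ → ℕ → ℕ
  | 0, x => side dBits x
  | k + 1, x => Nat.land (Nat.land (cls k x) (side (pt k).bits x)) (Nat.xor fullBits (2 ^ (pt k).x))

/-- A word keeps the set. -/
noncomputable def keeps (w : List ℕ) : Bool :=
  w.all (fun g => Nat.blt g 10) &&
    dList.all fun d => dBits.testBit (fwalk w d) && dBits.testBit (fwalk w.reverse d)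

/-- The points fixed by a transposition, on a block. -/
noncomputable def comBlock (k b : ℕ) : Bool :=
  let B := (pt k).bits
  let w := (pt k).path.reverse
  (List.range 1000).all fun j =>
    let r := 1000 * b + j
    !(Nat.blt r 31671) || (B.testBit r == !(Nat.beq (forest.lab (fwalk w r)) 2))

/-- The class of a point. -/
noncomputable def oLab (i : ℕ) : ℕ := Nat.land (orbRec i) 3

/-- The depth of a point. -/
noncomputable def oDepth (i : ℕ) : ℕ := Nat.land (Nat.shiftRight (orbRec i) 2) 31

/-- The number of the word to a point from its parent. -/
noncomputable def oVia (i : ℕ) : ℕ := Nat.land (Nat.shiftRight (orbRec i) 7) 15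

/-- The parent of a point. -/
noncomputable def oParent (i : ℕ) : ℕ := Nat.shiftRight (orbRec i) 11

/-- The edges, on a block. -/
noncomputable def edgeBlock (b : ℕ) : Bool :=
  (List.range 1000).all fun j =>
    let p := 1000 * b + j
    !(Nat.blt p 31671) || dBits.testBit p ||
      Nat.blt (oLab p) 2 &&
        (Nat.beq p (outRoots.getD (oLab p) 0) ||
          Nat.blt (oDepth (oParent p)) (oDepth p) && Nat.blt (oParent p) 31671 &&
            !(dBits.testBit (oParent p)) && Nat.beq (oLab (oParent p)) (oLab p) &&
            Nat.blt (oVia p) edgeWords.length &&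
            Nat.beq (fwalk (edgeWords.getD (oVia p) []) (oParent p)) p)

/-- The word of the transposition of the end of a path. -/
def transWord (w : List ℕ) : List ℕ := w.reverse ++ wordT ++ w

/-- A point of the set or of one of the classes. -/
noncomputable def inUnion (k p : ℕ) : Bool :=
  Nat.blt p 31671 && (dBits.testBit p || Nat.beq (oLab p) k)

/-- A pair of points giving the point of a generator. -/
noncomputable def genOk (k j : ℕ) : Bool :=
  let p := (genPaths.getD j (0, [])).1
  Option.rec (motive := fun _ => Bool) (inUnion k p)
    (fun e => e.2.1.all (fun g => Nat.blt g 10) && Nat.beq (fwalk e.2.1 0) e.1 &&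
      inUnion k e.1 && inUnion k e.2.2 && Nat.beq (fwalk (transWord e.2.1) e.2.2) p)
    ((genCert.getD k []).getD j none)

end CfsgLib.Fi23P.NThree
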