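import Cfsg.Agent.Lib.Fi23P.Perm
import Cfsg.Agent.Lib.Fi23P.NThree.Checks

/-!
The stabiliser of a set of 324 transpositions.
-/

set_option autoImplicit false
set_option maxRecDepth 100000

namespace CfsgLib.Fi23P.NThree

open CfsgLib.PresCert Cfsg.Spor

attribute [local irreducible] relShort levels wordA rootWords baseL dBits chain dList mLevels

/-- The first point. -/
def origin : Fin tab.n := ⟨0, zero_lt⟩

theorem exists_toPoint (q : Fin tab.n) : ∃ m, phi m origin = q :=
  haveI := card_fi.1
  (Fast.card_trans (M := Cfsg.Spor.Fi23) (φ := phi) realised zero_lt tree_ok).1 origin q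

/-- An element carrying the first point to a given one. -/
noncomputable def toP (q : Fin tab.n) : Cfsg.Spor.Fi23 := (exists_toPoint q).choose

theorem phi_toP (q : Fin tab.n) : phi (toP q) origin = q := (exists_toPoint q).choose_spec

/-- The transposition of a point. -/
noncomputable def refP (q : Fin tab.n) : Cfsg.Spor.Fi23 := toP q * eltT * (toP q)⁻¹

theorem mem_subH_of {m : Cfsg.Spor.Fi23} (h : phi m origin = origin) : m ∈ subH := by
  rw [subH_eq]
  intro i hi
  obtain rfl : i = origin := Fin.ext (List.mem_singleton.1 hi)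
  exact h

theorem refP_of {m : Cfsg.Spor.Fi23} {q : Fin tab.n} (h : phi m origin = q) :
    refP q = m * eltT * m⁻¹ := by
  have hm : m⁻¹ * toP q ∈ subH := mem_subH_of (by
    rw [map_mul, Equiv.Perm.mul_apply, phi_toP, map_inv, Equiv.Perm.inv_def,
      Equiv.symm_apply_eq, h])
  have e := t_central hm
  calc toP q * eltT * (toP q)⁻¹
      = m * (m⁻¹ * toP q * eltT) * (m⁻¹ * toP q)⁻¹ * m⁻¹ := by group
    _ = m * (eltT * (m⁻¹ * toP q)) * (m⁻¹ * toP q)⁻¹ * m⁻¹ := by rw [e]
    _ = _ := by group

theorem refP_conj (h : Cfsg.Spor.Fi23) (q : Fin tab.n) :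
    h * refP q * h⁻¹ = refP (phi h q) := by
  rw [refP_of (m := h * toP q) (q := phi h q)
    (by rw [map_mul, Equiv.Perm.mul_apply, phi_toP]), refP]
  group

theorem refP_origin : refP origin = eltT := by
  rw [refP_of (m := 1) (q := origin) (by simp)]
  group

theorem wordT_lt : ∀ g ∈ wordT, g < 10 := by decide

theorem root_T : (List.range 3).all (fun k =>
    (Nat.beq (fwalk wordT (forest.roots.getD k 0)) (forest.roots.getD k 0)) ==
      !(Nat.beq k 2)) = true := by
  decide +kernel

/-- The first transposition fixes exactly the points of the first two classes. -/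
theorem t_fix (p : Fin tab.n) : phi eltT p = p ↔ forest.lab p.val ≠ 2 := by
  have hlab := (forest_ok.spec p.isLt).2.1
  have hr : forest.roots.length = 3 := forest_zero.1
  obtain ⟨m, hm, hp⟩ := forest_ok.reach realised p
  rw [← subH_words] at hm
  have e := t_central hm
  set r : Fin tab.n := ⟨forest.roots.getD (forest.lab p.val) 0,
    (forest_ok.root hlab).1⟩ with hrdef
  have key : phi eltT p = p ↔ phi eltT r = r := by
    rw [← hp, ← Equiv.Perm.mul_apply, ← map_mul, e, map_mul, Equiv.Perm.mul_apply]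
    exact (phi m).apply_eq_iff_eq
  have h2 := List.all_eq_true.1 root_T (forest.lab p.val) (List.mem_range.2 (hr ▸ hlab))
  rw [key, Fin.ext_iff, eltT, realised.act_apply wordT_lt, ← fwalk_eq, hrdef]
  simp only [beq_iff_eq] at h2
  show fwalk wordT (forest.roots.getD (forest.lab p.val) 0) =
    forest.roots.getD (forest.lab p.val) 0 ↔ _
  constructor
  · intro h h'
    rw [h'] at h h2
    rw [show Nat.beq (fwalk wordT (forest.roots.getD 2 0)) (forest.roots.getD 2 0) = true from
      Nat.beq_eq.mpr h] at h2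
    exact absurd h2 (by decide)
  · intro h
    rw [show Nat.beq (forest.lab p.val) 2 = false from
      Bool.eq_false_iff.2 fun h' => h (Nat.eq_of_beq_eq_true h')] at h2
    exact Nat.eq_of_beq_eq_true (by simpa using h2)

/-- Membership in the set. -/
def inD (p : Fin tab.n) : Prop := dBits.testBit p.val = true

/-- The stabiliser of the set. -/
noncomputable def grpM : Subgroup Cfsg.Spor.Fi23 where
  carrier := {m | ∀ p, inD (phi m p) ↔ inD p}
  one_mem' p := by simp
  mul_mem' {a b} ha hb p := by rw [map_mul, Equiv.Perm.mul_apply]; exact (ha _).trans (hb p)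
  inv_mem' {a} ha p := by
    have h := ha (phi a⁻¹ p)
    rw [← Equiv.Perm.mul_apply, ← map_mul, mul_inv_cancel, map_one, Equiv.Perm.one_apply] at h
    exact h.symm

/-- The elements of the stabiliser fixing the chain up to a step. -/
noncomputable def grpF (k : ℕ) : Subgroup Cfsg.Spor.Fi23 :=
  grpM ⊓ Fast.fixSub phi ((List.range k).map fun i => (pt i).x)

theorem testBit_orBits {L : List ℕ} {r : ℕ} :
    (orBits L).testBit r = true ↔ r ∈ L := by
  induction L with
  | nil => simp [orBits]
  | cons a L ih =>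
    show (2 ^ a ||| orBits L).testBit r = true ↔ _
    rw [Nat.testBit_or, Bool.or_eq_true, ih, Nat.testBit_two_pow, decide_eq_true_eq,
      List.mem_cons]
    exact or_congr eq_comm Iff.rfl

theorem testBit_full {r : ℕ} (B : ℕ) (hr : r < 31671) :
    (Nat.xor fullBits B).testBit r = !B.testBit r := by
  show (fullBits ^^^ B).testBit r = _
  rw [Nat.testBit_xor, fullBits, Nat.testBit_two_pow_sub_one, decide_eq_true hr, Bool.true_xor]

theorem testBit_side {r : ℕ} (B x : ℕ) (hr : r < 31671) :
    (side B x).testBit r = true ↔ B.testBit r = B.testBit x := by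
  unfold side
  cases h : B.testBit x
  · rw [cond_false, testBit_full B hr]; simp
  · simp

theorem keeps_mem {w : List ℕ} (hb : Nat.beq (orBits dList) dBits = true) (h : keeps w = true) :
    act fiGen w ∈ grpM ∧ ∀ g ∈ w, g < 10 := by
  simp only [keeps, Bool.and_eq_true, List.all_eq_true, Nat.blt_eq] at h
  obtain ⟨hl, hd⟩ := h
  refine ⟨fun p => ?_, hl⟩
  have hb' : orBits dList = dBits := Nat.eq_of_beq_eq_true hb
  have mem : ∀ q : Fin tab.n, inD q → q.val ∈ dList := fun q hq => by
    rw [← testBit_orBits, hb']; exact hq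
  have fwd : ∀ q : Fin tab.n, inD q →
      inD (phi (act fiGen w) q) ∧ inD (phi (act fiGen w)⁻¹ q) := by
    intro q hq
    obtain ⟨h1, h2⟩ := hd _ (mem q hq)
    refine ⟨?_, ?_⟩
    · rw [inD, realised.act_apply hl, ← fwalk_eq]; exact h1
    · have hl' : ∀ g ∈ w.reverse, g < 10 := fun g hg => hl g (List.mem_reverse.1 hg)
      rw [← act_reverse fiGen_sq hl, inD, realised.act_apply hl', ← fwalk_eq]; exact h2
  refine ⟨fun hp => ?_, fun hp => (fwd p hp).1⟩
  have := (fwd _ hp).2
  rwa [← Equiv.Perm.mul_apply, ← map_mul, inv_mul_cancel, map_one, Equiv.Perm.one_apply] at this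

/-- The bit set of a transposition, from the check on the blocks. -/
theorem bits_spec {k : ℕ} (hx : (pt k).x < tab.n)
    (hp : (pt k).path.all (fun g => Nat.blt g 10) = true)
    (he : fwalk (pt k).path 0 = (pt k).x) (hc : ∀ b < 32, comBlock k b = true) (r : Fin tab.n) :
    (pt k).bits.testBit r.val = true ↔ phi (refP ⟨(pt k).x, hx⟩) r = r := by
  have hl : ∀ g ∈ (pt k).path, g < 10 := fun g hg => by
    simpa [Nat.blt_eq] using List.all_eq_true.1 hp g hg
  have hl' : ∀ g ∈ (pt k).path.reverse, g < 10 := fun g hg => hl g (List.mem_reverse.1 hg)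
  have hr : r.val < 31671 := r.isLt
  have hb := hc (r.val / 1000) (by omega)
  simp only [comBlock, List.all_eq_true, List.mem_range, Bool.or_eq_true, Bool.not_eq_true',
    beq_iff_eq] at hb
  have h' := hb (r.val % 1000) (Nat.mod_lt _ (by norm_num))
  rw [Nat.div_add_mod] at h'
  have h2 := h'.resolve_left fun e => by
    rw [show Nat.blt r.val 31671 = true by rw [Nat.blt_eq]; exact hr] at e
    exact Bool.noConfusion e
  set m := act fiGen (pt k).path
  have hm : phi m origin = ⟨(pt k).x, hx⟩ := by
    refine Fin.ext ?_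
    rw [realised.act_apply hl, ← fwalk_eq]
    exact he
  rw [refP_of hm, map_mul, map_mul, Equiv.Perm.mul_apply, Equiv.Perm.mul_apply,
    ← Equiv.eq_symm_apply, ← Equiv.Perm.inv_def, ← map_inv, t_fix,
    ← act_reverse fiGen_sq hl, realised.act_apply hl', ← fwalk_eq, h2]
  rw [Bool.not_eq_true', ← Bool.not_eq_true, Nat.beq_eq]

/-- The classes are invariant. -/
theorem cls_spec (hx : ∀ i < 19, ∃ hx : (pt i).x < tab.n, ∀ r : Fin tab.n,
      ((pt i).bits.testBit r.val = true ↔ phi (refP ⟨(pt i).x, hx⟩) r = r)) :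
    ∀ k ≤ 19, ∀ g ∈ grpF k, ∀ (x : ℕ) (p : Fin tab.n),
      (cls k x).testBit p.val = true → (cls k x).testBit (phi g p).val = true
  | 0, _, g, hg, x, p, h => by
    have hD := (Subgroup.mem_inf.1 hg).1 p
    simp only [cls] at h ⊢
    rw [testBit_side _ _ p.isLt] at h
    rw [testBit_side _ _ (phi g p).isLt, ← h]
    exact Bool.eq_iff_iff.2 hD
  | k + 1, hk, g, hg, x, p, h => by
    obtain ⟨hgM, hgF⟩ := Subgroup.mem_inf.1 hg
    have hgk : g ∈ grpF k := Subgroup.mem_inf.2 ⟨hgM, Fast.fixSub_le (fun a ha => by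
      rw [List.range_succ, List.map_append]; exact List.mem_append_left _ ha) hgF⟩
    obtain ⟨hb, hs⟩ := hx k (by omega)
    have hgb : phi g ⟨(pt k).x, hb⟩ = ⟨(pt k).x, hb⟩ := hgF _ (List.mem_map.2
      ⟨k, List.mem_range.2 (by omega), rfl⟩)
    simp only [cls] at h ⊢
    rw [show ∀ a b, Nat.land a b = a &&& b from fun _ _ => rfl] at h ⊢
    rw [show ∀ a b, Nat.land a b = a &&& b from fun _ _ => rfl] at h ⊢
    simp only [Nat.testBit_and, Bool.and_eq_true] at h ⊢
    rw [testBit_full _ p.isLt, Bool.not_eq_true', testBit_side _ _ p.isLt] at h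
    rw [testBit_full _ (phi g p).isLt, Bool.not_eq_true', testBit_side _ _ (phi g p).isLt]
    obtain ⟨⟨h1, h2⟩, h3⟩ := h
    refine ⟨⟨cls_spec hx k (by omega) g hgk x p h1, ?_⟩, ?_⟩
    · rw [← h2]
      refine Bool.eq_iff_iff.2 ?_
      rw [hs, hs]
      conv_lhs => rw [show refP ⟨(pt k).x, hb⟩ = g * refP ⟨(pt k).x, hb⟩ * g⁻¹ by
        rw [refP_conj, hgb]]
      rw [map_mul, map_mul, Equiv.Perm.mul_apply, Equiv.Perm.mul_apply, map_inv,
        Equiv.Perm.inv_def, Equiv.symm_apply_apply]
      exact (phi g).apply_eq_iff_eq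
    · rw [Nat.testBit_two_pow, decide_eq_false_iff_not] at h3 ⊢
      intro e
      apply h3
      have : phi g p = phi g ⟨(pt k).x, hb⟩ := by rw [hgb]; exact Fin.ext e.symm
      rw [(phi g).injective this]

end CfsgLib.Fi23P.NThree
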