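import Cfsg.Agent.Lib.Fi23P.NThree.Checks

/-!
Kernel checks of the fixed points of transpositions.
-/

set_option autoImplicit false
set_option maxRecDepth 100000

namespace CfsgLib.Fi23P.NThree

theorem com_0_0 : (List.range 8).all (fun i => comBlock 0 (0 + i)) = true := by
  decide +kernel

theorem com_0_1 : (List.range 8).all (fun i => comBlock 0 (8 + i)) = true := by
  decide +kernel

theorem com_0_2 : (List.range 8).all (fun i => comBlock 0 (16 + i)) = true := by
  decide +kernel

theorem com_0_3 : (List.range 8).all (fun i => comBlock 0 (24 + i)) = true := by
  decide +kernel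

theorem com_1_0 : (List.range 8).all (fun i => comBlock 1 (0 + i)) = true := by
  decide +kernel

theorem com_1_1 : (List.range 8).all (fun i => comBlock 1 (8 + i)) = true := by
  decide +kernel

theorem com_1_2 : (List.range 8).all (fun i => comBlock 1 (16 + i)) = true := by
  decide +kernel

theorem com_1_3 : (List.range 8).all (fun i => comBlock 1 (24 + i)) = true := by
  decide +kernel

theorem com_2_0 : (List.range 8).all (fun i => comBlock 2 (0 + i)) = true := by
  decide +kernel

theorem com_2_1 : (List.range 8).all (fun i => comBlock 2 (8 + i)) = true := by
  decide +kernel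

theorem com_2_2 : (List.range 8).all (fun i => comBlock 2 (16 + i)) = true := by
  decide +kernel

theorem com_2_3 : (List.range 8).all (fun i => comBlock 2 (24 + i)) = true := by
  decide +kernel

theorem com_3_0 : (List.range 8).all (fun i => comBlock 3 (0 + i)) = true := by
  decide +kernel

theorem com_3_1 : (List.range 8).all (fun i => comBlock 3 (8 + i)) = true := by
  decide +kernel

theorem com_3_2 : (List.range 8).all (fun i => comBlock 3 (16 + i)) = true := by
  decide +kernel

theorem com_3_3 : (List.range 8).all (fun i => comBlock 3 (24 + i)) = true := by
  decide +kernel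

end CfsgLib.Fi23P.NThree
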