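import Cfsg.Agent.Lib.Fi23P.NThree.Checks

/-!
Kernel checks of the fixed points of transpositions.
-/

set_option autoImplicit false
set_option maxRecDepth 100000

namespace CfsgLib.Fi23P.NThree

theorem com_4_0 : (List.range 8).all (fun i => comBlock 4 (0 + i)) = true := by
  decide +kernel

theorem com_4_1 : (List.range 8).all (fun i => comBlock 4 (8 + i)) = true := by
  decide +kernel

theorem com_4_2 : (List.range 8).all (fun i => comBlock 4 (16 + i)) = true := by
  decide +kernel

theorem com_4_3 : (List.range 8).all (fun i => comBlock 4 (24 + i)) = true := by
  decide +kernel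

theorem com_5_0 : (List.range 8).all (fun i => comBlock 5 (0 + i)) = true := by
  decide +kernel

theorem com_5_1 : (List.range 8).all (fun i => comBlock 5 (8 + i)) = true := by
  decide +kernel

theorem com_5_2 : (List.range 8).all (fun i => comBlock 5 (16 + i)) = true := by
  decide +kernel

theorem com_5_3 : (List.range 8).all (fun i => comBlock 5 (24 + i)) = true := by
  decide +kernel

theorem com_6_0 : (List.range 8).all (fun i => comBlock 6 (0 + i)) = true := by
  decide +kernel

theorem com_6_1 : (List.range 8).all (fun i => comBlock 6 (8 + i)) = true := by
  decide +kernel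

theorem com_6_2 : (List.range 8).all (fun i => comBlock 6 (16 + i)) = true := by
  decide +kernel

theorem com_6_3 : (List.range 8).all (fun i => comBlock 6 (24 + i)) = true := by
  decide +kernel

theorem com_7_0 : (List.range 8).all (fun i => comBlock 7 (0 + i)) = true := by
  decide +kernel

theorem com_7_1 : (List.range 8).all (fun i => comBlock 7 (8 + i)) = true := by
  decide +kernel

theorem com_7_2 : (List.range 8).all (fun i => comBlock 7 (16 + i)) = true := by
  decide +kernel

theorem com_7_3 : (List.range 8).all (fun i => comBlock 7 (24 + i)) = true := by
  decide +kernel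

end CfsgLib.Fi23P.NThree
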