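import Cfsg.Agent.Lib.Fi23P.NThree.Checks

/-!
Kernel checks of the fixed points of transpositions.
-/

set_option autoImplicit false
set_option maxRecDepth 100000

namespace CfsgLib.Fi23P.NThree

theorem com_8_0 : (List.range 8).all (fun i => comBlock 8 (0 + i)) = true := by
  decide +kernel

theorem com_8_1 : (List.range 8).all (fun i => comBlock 8 (8 + i)) = true := by
  decide +kernel

theorem com_8_2 : (List.range 8).all (fun i => comBlock 8 (16 + i)) = true := by
  decide +kernel

theorem com_8_3 : (List.range 8).all (fun i => comBlock 8 (24 + i)) = true := by
  decide +kernel

theorem com_9_0 : (List.range 8).all (fun i => comBlock 9 (0 + i)) = true := by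
  decide +kernel

theorem com_9_1 : (List.range 8).all (fun i => comBlock 9 (8 + i)) = true := by
  decide +kernel

theorem com_9_2 : (List.range 8).all (fun i => comBlock 9 (16 + i)) = true := by
  decide +kernel

theorem com_9_3 : (List.range 8).all (fun i => comBlock 9 (24 + i)) = true := by
  decide +kernel

theorem com_10_0 : (List.range 8).all (fun i => comBlock 10 (0 + i)) = true := by
  decide +kernel

theorem com_10_1 : (List.range 8).all (fun i => comBlock 10 (8 + i)) = true := by
  decide +kernel

theorem com_10_2 : (List.range 8).all (fun i => comBlock 10 (16 + i)) = true := by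
  decide +kernel

theorem com_10_3 : (List.range 8).all (fun i => comBlock 10 (24 + i)) = true := by
  decide +kernel

theorem com_11_0 : (List.range 8).all (fun i => comBlock 11 (0 + i)) = true := by
  decide +kernel

theorem com_11_1 : (List.range 8).all (fun i => comBlock 11 (8 + i)) = true := by
  decide +kernel

theorem com_11_2 : (List.range 8).all (fun i => comBlock 11 (16 + i)) = true := by
  decide +kernel

theorem com_11_3 : (List.range 8).all (fun i => comBlock 11 (24 + i)) = true := by
  decide +kernel

end CfsgLib.Fi23P.NThree
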