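import Cfsg.Agent.Lib.Fi23P.NThree.Checks

/-!
Kernel checks of the fixed points of transpositions.
-/

set_option autoImplicit false
set_option maxRecDepth 100000

namespace CfsgLib.Fi23P.NThree

theorem com_12_0 : (List.range 8).all (fun i => comBlock 12 (0 + i)) = true := by
  decide +kernel

theorem com_12_1 : (List.range 8).all (fun i => comBlock 12 (8 + i)) = true := by
  decide +kernel

theorem com_12_2 : (List.range 8).all (fun i => comBlock 12 (16 + i)) = true := by
  decide +kernel

theorem com_12_3 : (List.range 8).all (fun i => comBlock 12 (24 + i)) = true := by
  decide +kernel

theorem com_13_0 : (List.range 8).all (fun i => comBlock 13 (0 + i)) = true := by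
  decide +kernel

theorem com_13_1 : (List.range 8).all (fun i => comBlock 13 (8 + i)) = true := by
  decide +kernel

theorem com_13_2 : (List.range 8).all (fun i => comBlock 13 (16 + i)) = true := by
  decide +kernel

theorem com_13_3 : (List.range 8).all (fun i => comBlock 13 (24 + i)) = true := by
  decide +kernel

theorem com_14_0 : (List.range 8).all (fun i => comBlock 14 (0 + i)) = true := by
  decide +kernel

theorem com_14_1 : (List.range 8).all (fun i => comBlock 14 (8 + i)) = true := by
  decide +kernel

theorem com_14_2 : (List.range 8).all (fun i => comBlock 14 (16 + i)) = true := by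
  decide +kernel

theorem com_14_3 : (List.range 8).all (fun i => comBlock 14 (24 + i)) = true := by
  decide +kernel

theorem com_15_0 : (List.range 8).all (fun i => comBlock 15 (0 + i)) = true := by
  decide +kernel

theorem com_15_1 : (List.range 8).all (fun i => comBlock 15 (8 + i)) = true := by
  decide +kernel

theorem com_15_2 : (List.range 8).all (fun i => comBlock 15 (16 + i)) = true := by
  decide +kernel

theorem com_15_3 : (List.range 8).all (fun i => comBlock 15 (24 + i)) = true := by
  decide +kernel

end CfsgLib.Fi23P.NThree
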