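import Cfsg.Agent.Lib.Fi23P.NThree.Checks

/-!
Kernel checks of the fixed points of transpositions.
-/

set_option autoImplicit false
set_option maxRecDepth 100000

namespace CfsgLib.Fi23P.NThree

theorem com_16_0 : (List.range 8).all (fun i => comBlock 16 (0 + i)) = true := by
  decide +kernel

theorem com_16_1 : (List.range 8).all (fun i => comBlock 16 (8 + i)) = true := by
  decide +kernel

theorem com_16_2 : (List.range 8).all (fun i => comBlock 16 (16 + i)) = true := by
  decide +kernel

theorem com_16_3 : (List.range 8).all (fun i => comBlock 16 (24 + i)) = true := by
  decide +kernel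

theorem com_17_0 : (List.range 8).all (fun i => comBlock 17 (0 + i)) = true := by
  decide +kernel

theorem com_17_1 : (List.range 8).all (fun i => comBlock 17 (8 + i)) = true := by
  decide +kernel

theorem com_17_2 : (List.range 8).all (fun i => comBlock 17 (16 + i)) = true := by
  decide +kernel

theorem com_17_3 : (List.range 8).all (fun i => comBlock 17 (24 + i)) = true := by
  decide +kernel

theorem com_18_0 : (List.range 8).all (fun i => comBlock 18 (0 + i)) = true := by
  decide +kernel

theorem com_18_1 : (List.range 8).all (fun i => comBlock 18 (8 + i)) = true := by
  decide +kernel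

theorem com_18_2 : (List.range 8).all (fun i => comBlock 18 (16 + i)) = true := by
  decide +kernel

theorem com_18_3 : (List.range 8).all (fun i => comBlock 18 (24 + i)) = true := by
  decide +kernel

end CfsgLib.Fi23P.NThree
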