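import Cfsg.Agent.Lib.Fi23P.NThree.KeepData

/-!
Kernel checks that words keep the set.
-/

set_option autoImplicit false
set_option maxRecDepth 100000

namespace CfsgLib.Fi23P.NThree

theorem keep_word1 : maps kWord1 = true := by
  decide +kernel

theorem keep_word4 : maps kWord4 = true := by
  decide +kernel

theorem keep_word10 : maps kWord10 = true := by
  decide +kernel

theorem keep_word12 : maps kWord12 = true := by
  decide +kernel

theorem keep_word13 : maps kWord13 = true := by
  decide +kernel

theorem keep_word15 : maps kWord15 = true := by
  decide +kernel

theorem keep_word20 : maps kWord20 = true := by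
  decide +kernel

theorem keep_word21 : maps kWord21 = true := by
  decide +kernel

end CfsgLib.Fi23P.NThree
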