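import Cfsg.Agent.Lib.Fi23P.NThree.KeepData

/-!
Kernel checks that words keep the set.
-/

set_option autoImplicit false
set_option maxRecDepth 100000

namespace CfsgLib.Fi23P.NThree

theorem keep_word0 : maps kWord0 = true := by
  decide +kernel

theorem keep_word3 : maps kWord3 = true := by
  decide +kernel

theorem keep_word6 : maps kWord6 = true := by
  decide +kernel

theorem keep_word8 : maps kWord8 = true := by
  decide +kernel

theorem keep_word14 : maps kWord14 = true := by
  decide +kernel

theorem keep_word16 : maps kWord16 = true := by
  decide +kernel

theorem keep_word19 : maps kWord19 = true := by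
  decide +kernel

end CfsgLib.Fi23P.NThree
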