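import Cfsg.Agent.Lib.Fi23P.NThree.KeepData

/-!
Kernel checks that words keep the set.
-/

set_option autoImplicit false
set_option maxRecDepth 100000

namespace CfsgLib.Fi23P.NThree

theorem keep_word2 : maps kWord2 = true := by
  decide +kernel

theorem keep_word5 : maps kWord5 = true := by
  decide +kernel

theorem keep_word7 : maps kWord7 = true := by
  decide +kernel

theorem keep_word9 : maps kWord9 = true := by
  decide +kernel

theorem keep_word11 : maps kWord11 = true := by
  decide +kernel

theorem keep_word17 : maps kWord17 = true := by
  decide +kernel

theorem keep_word18 : maps kWord18 = true := by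
  decide +kernel

end CfsgLib.Fi23P.NThree
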