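import Cfsg.Agent.Lib.Fi23P.NThree.Checks
import Cfsg.Agent.Lib.Fi23P.NThree.Kept0
import Cfsg.Agent.Lib.Fi23P.NThree.Kept1
import Cfsg.Agent.Lib.Fi23P.NThree.Kept2

/-!
Kernel checks of classes, levels and words.
-/

set_option autoImplicit false
set_option maxRecDepth 100000

namespace CfsgLib.Fi23P.NThree

open CfsgLib.PresCert

/-- The commutator of two earlier words, as a word. -/
def commWord (P : List (List ℕ × List (ℕ × ℕ))) (e : ℕ × ℕ) : List ℕ :=
  (P.getD e.2 ([], [])).1.reverse ++ (P.getD e.1 ([], [])).1.reverse ++
    (P.getD e.2 ([], [])).1 ++ (P.getD e.1 ([], [])).1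

/-- A product of commutators, as a word. -/
def commProd (P : List (List ℕ × List (ℕ × ℕ))) (l : List (ℕ × ℕ)) : List ℕ :=
  ((l.map (commWord P)).reverse).flatten

theorem keep_all : ∀ w ∈ keepList, maps w = true := by
  intro w hw
  simp only [keepList, List.mem_cons, List.not_mem_nil, or_false] at hw
  rcases hw with rfl | rfl | rfl | rfl | rfl | rfl | rfl | rfl | rfl | rfl | rfl | rfl | rfl | rfl | rfl | rfl | rfl | rfl | rfl | rfl | rfl | rfl
  exacts [keep_word0, keep_word1, keep_word2, keep_word3, keep_word4, keep_word5, keep_word6, keep_word7, keep_word8, keep_word9, keep_word10, keep_word11, keep_word12, keep_word13, keep_word14, keep_word15, keep_word16, keep_word17, keep_word18, keep_word19, keep_word20, keep_word21]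

/-- Whether a word is among those keeping the set. -/
noncomputable def kept (w : List ℕ) : Bool := keepList.any fun v => decide (w = v)

theorem kept_maps {w : List ℕ} (h : kept w = true) : maps w = true := by
  simp only [kept, List.any_eq_true, decide_eq_true_eq] at h
  obtain ⟨v, hv, rfl⟩ := h
  exact keep_all _ hv

theorem level_keeps : (List.range 6).all (fun k =>
    (mLevels.getD k ⟨0, [], [], []⟩).gens.all kept) = true := by
  decide +kernel

theorem three_word : kept wordThree = true ∧
    (List.range 6).all (fun i => Nat.beq (fwalk wordThree (pt i).x) (pt i).x) = true ∧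
    sameBase (wordThree ++ wordThree ++ wordThree) [] = true ∧
    sameBase wordThree [] = false := by
  decide +kernel

theorem edge_keeps : edgeWords.all kept = true := by decide +kernel

theorem der_shape : decide (derData.length = 10) = true ∧
    ((derData.getD 0 []).all fun e => kept e.1) = true ∧
    (List.range 9).all (fun k => (derData.getD (k + 1) []).all fun e =>
      e.1.all (fun g => Nat.blt g 10) &&
        sameBase e.1 (commProd (derData.getD k []) e.2)) = true ∧
    sameBase ((derData.getD 9 []).getD 0 ([], [])).1 [] = false := by
  decide +kernel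

end CfsgLib.Fi23P.NThree
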