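import Cfsg.Agent.Lib.Fi23P.NThree.Checks

/-!
Kernel checks of classes, levels and words.
-/

set_option autoImplicit false
set_option maxRecDepth 100000

namespace CfsgLib.Fi23P.NThree

open CfsgLib.PresCert

theorem set_bits : Nat.beq (orBits dList) dBits = true ∧ decide (dList.length = 324) = true ∧
    dList.all (fun d => Nat.blt d 31671) = true := by
  decide +kernel

theorem chain_shape : decide (chain.length = 19) = true ∧ (List.range 19).all (fun k =>
    Nat.blt (pt k).x 31671 && (pt k).path.all (fun g => Nat.blt g 10) &&
      Nat.beq (fwalk (pt k).path 0) (pt k).x) = true := by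
  decide +kernel

theorem level_shape : decide (mLevels.length = 6) = true ∧ (List.range 6).all (fun k =>
    Nat.beq (cls k (pt k).x) (orBits (mLevels.getD k ⟨0, [], [], []⟩).pts) &&
      Nat.beq (mLevels.getD k ⟨0, [], [], []⟩).base (pt k).x &&
      Fast.levelOk tab ((List.range k).map fun i => (pt i).x) (mLevels.getD k ⟨0, [], [], []⟩)) = true := by
  decide +kernel

theorem six_class : Nat.beq (cls 6 (pt 6).x) (orBits sixList) = true ∧
    decide (sixList.length = 6) = true := by
  decide +kernel

theorem singles : (List.range 12).all (fun i =>
      Nat.beq (cls (7 + i) (pt (7 + i)).x) (2 ^ (pt (7 + i)).x)) = true ∧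
    baseL.all (fun x => Nat.beq (cls 19 x) (2 ^ x) ||
      (List.range 19).any fun i => Nat.beq (pt i).x x) = true := by
  decide +kernel

theorem t_keeps : keeps wordT = true := by decide +kernel

theorem gen_words : decide (genPaths.length = 10) = true ∧
    ((List.range 10).all fun j => let e := genPaths.getD j (0, [])
      Nat.blt e.1 31671 && Nat.beq (fwalk e.2 0) e.1 && sameBase [j] (transWord e.2)) = true := by
  decide +kernel

theorem gen_cert : ((List.range 2).all fun k => (List.range 10).all fun j => genOk k j) = true := by
  decide +kernel

theorem proper_word : sameBase [0, 1, 0, 1] [] = false ∧ keeps [0] = false := by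
  decide +kernel

end CfsgLib.Fi23P.NThree
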