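import Cfsg.Agent.Lib.Fi23P.NThree.Basic
import Cfsg.Agent.Lib.Fi23P.NThree.Small
import Cfsg.Agent.Lib.Fi23P.NThree.Keeps
import Cfsg.Agent.Lib.Fi23P.NThree.Fixes0
import Cfsg.Agent.Lib.Fi23P.NThree.Fixes1
import Cfsg.Agent.Lib.Fi23P.NThree.Fixes2
import Cfsg.Agent.Lib.Fi23P.NThree.Fixes3
import Cfsg.Agent.Lib.Fi23P.NThree.Fixes4
import Cfsg.Agent.S0144

/-!
The order of the stabiliser has two prime divisors.
-/

set_option autoImplicit false
set_option maxRecDepth 100000

namespace CfsgLib.Fi23P.NThree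

open CfsgLib.PresCert Cfsg.Spor

attribute [local irreducible] relShort levels wordA rootWords baseL dBits chain dList mLevels
  sixList wordThree

theorem com_part : ∀ k < 19, ∀ c < 4,
    (List.range 8).all (fun i => comBlock k (8 * c + i)) = true := by
  intro k hk c hc
  interval_cases k
  · interval_cases c
    exacts [com_0_0, com_0_1, com_0_2, com_0_3]
  · interval_cases c
    exacts [com_1_0, com_1_1, com_1_2, com_1_3]
  · interval_cases c
    exacts [com_2_0, com_2_1, com_2_2, com_2_3]
  · interval_cases c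
    exacts [com_3_0, com_3_1, com_3_2, com_3_3]
  · interval_cases c
    exacts [com_4_0, com_4_1, com_4_2, com_4_3]
  · interval_cases c
    exacts [com_5_0, com_5_1, com_5_2, com_5_3]
  · interval_cases c
    exacts [com_6_0, com_6_1, com_6_2, com_6_3]
  · interval_cases c
    exacts [com_7_0, com_7_1, com_7_2, com_7_3]
  · interval_cases c
    exacts [com_8_0, com_8_1, com_8_2, com_8_3]
  · interval_cases c
    exacts [com_9_0, com_9_1, com_9_2, com_9_3]
  · interval_cases c
    exacts [com_10_0, com_10_1, com_10_2, com_10_3]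
  · interval_cases c
    exacts [com_11_0, com_11_1, com_11_2, com_11_3]
  · interval_cases c
    exacts [com_12_0, com_12_1, com_12_2, com_12_3]
  · interval_cases c
    exacts [com_13_0, com_13_1, com_13_2, com_13_3]
  · interval_cases c
    exacts [com_14_0, com_14_1, com_14_2, com_14_3]
  · interval_cases c
    exacts [com_15_0, com_15_1, com_15_2, com_15_3]
  · interval_cases c
    exacts [com_16_0, com_16_1, com_16_2, com_16_3]
  · interval_cases c
    exacts [com_17_0, com_17_1, com_17_2, com_17_3]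
  · interval_cases c
    exacts [com_18_0, com_18_1, com_18_2, com_18_3]

theorem com_all : ∀ k < 19, ∀ b < 32, comBlock k b = true := by
  intro k hk b hb
  rw [← Nat.div_add_mod b 8]
  exact (List.all_eq_true.1 (com_part k hk (b / 8) (by omega))) (b % 8)
    (List.mem_range.2 (Nat.mod_lt _ (by norm_num)))

theorem pt_lt {i : ℕ} (hi : i < 19) : (pt i).x < tab.n := by
  have h := List.all_eq_true.1 chain_shape.2 i (List.mem_range.2 hi)
  simp only [Bool.and_eq_true, Nat.blt_eq] at h
  exact h.1.1

/-- A point of the chain. -/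
noncomputable def ptF (i : ℕ) (hi : i < 19) : Fin tab.n := ⟨(pt i).x, pt_lt hi⟩

theorem bits_all : ∀ i < 19, ∃ hx : (pt i).x < tab.n, ∀ r : Fin tab.n,
    ((pt i).bits.testBit r.val = true ↔ phi (refP ⟨(pt i).x, hx⟩) r = r) := by
  intro i hi
  have h := List.all_eq_true.1 chain_shape.2 i (List.mem_range.2 hi)
  simp only [Bool.and_eq_true, Nat.blt_eq, Nat.beq_eq] at h
  exact ⟨h.1.1, bits_spec h.1.1 h.1.2 h.2 (com_all i hi)⟩

theorem set_eq : orBits dList = dBits := Nat.eq_of_beq_eq_true set_bits.1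

theorem keeps_grpM {w : List ℕ} (h : keeps w = true) :
    act fiGen w ∈ grpM ∧ ∀ g ∈ w, g < 10 :=
  keeps_mem set_bits.1 h

theorem kept_grpM {w : List ℕ} (h : kept w = true) :
    act fiGen w ∈ grpM ∧ ∀ g ∈ w, g < 10 := by
  have h := kept_maps h
  simp only [maps, Bool.and_eq_true, List.all_eq_true, Nat.blt_eq] at h
  obtain ⟨hl, hd⟩ := h
  refine ⟨fun p => ?_, hl⟩
  have fwd : ∀ q : Fin tab.n, inD q → inD (phi (act fiGen w) q) := by
    intro q hq
    rw [inD, realised.act_apply hl, ← fwalk_eq]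
    refine hd _ ?_
    rw [← testBit_orBits, set_eq]
    exact hq
  refine ⟨fun hp => ?_, fwd p⟩
  have hset : (phi (act fiGen w)) '' {q | inD q} = {q | inD q} := by
    refine Set.eq_of_subset_of_ncard_le ?_ (le_of_eq ?_) (Set.toFinite _)
    · rintro _ ⟨q, hq, rfl⟩
      exact fwd q hq
    · exact (Set.ncard_image_of_injective _ (phi (act fiGen w)).injective).symm
  have hmem : phi (act fiGen w) p ∈ (phi (act fiGen w)) '' {q | inD q} := by
    rw [hset]
    exact hp
  obtain ⟨q, hq, e⟩ := hmem
  exact (phi (act fiGen w)).injective e ▸ hq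

/-- A point lies in its own class unless the chain has met it. -/
theorem cls_images {k : ℕ} (hk : k ≤ 19) {g : Cfsg.Spor.Fi23} (hg : g ∈ grpF k) {x : ℕ}
    (p : Fin tab.n) {L : List ℕ} (hL : cls k x = orBits L) (hp : p.val ∈ L) :
    (phi g p).val ∈ L := by
  rw [← testBit_orBits, ← hL] at hp ⊢
  exact cls_spec bits_all k hk g hg x p hp

/-- A single class gives a fixed point. -/
theorem cls_single {k : ℕ} (hk : k ≤ 19) {g : Cfsg.Spor.Fi23} (hg : g ∈ grpF k)
    (p : Fin tab.n) (hL : cls k p.val = 2 ^ p.val) : phi g p = p := by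
  have h := cls_spec bits_all k hk g hg p.val p (by rw [hL, Nat.testBit_two_pow_self])
  rw [hL, Nat.testBit_two_pow, decide_eq_true_eq] at h
  exact Fin.ext h.symm

theorem mem_grpF {k : ℕ} (hk : k ≤ 19) {g : Cfsg.Spor.Fi23} :
    g ∈ grpF k ↔ g ∈ grpM ∧ ∀ i < k, ∀ hi : i < 19, phi g (ptF i hi) = ptF i hi := by
  refine ⟨fun h => ⟨(Subgroup.mem_inf.1 h).1, fun i hik hi =>
    (Subgroup.mem_inf.1 h).2 _ (List.mem_map.2 ⟨i, List.mem_range.2 hik, rfl⟩)⟩,
    fun h => Subgroup.mem_inf.2 ⟨h.1, fun p hp => ?_⟩⟩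
  obtain ⟨i, hi, e⟩ := List.mem_map.1 hp
  rw [List.mem_range] at hi
  rw [show p = ptF i (by omega) from Fin.ext e.symm]
  exact h.2 i hi _

/-- Orbit and stabiliser at a step of the chain. -/
theorem grpF_step {k : ℕ} (hk : k < 19) :
    letI : MulAction (grpF k) (Fin tab.n) := MulAction.compHom _ (phi.comp (grpF k).subtype)
    Nat.card (grpF k) = Nat.card (MulAction.orbit (grpF k) (ptF k hk)) * Nat.card (grpF (k + 1)) := by
  letI : MulAction (grpF k) (Fin tab.n) := MulAction.compHom _ (phi.comp (grpF k).subtype)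
  have h := Nat.card_congr (MulAction.orbitProdStabilizerEquivGroup (grpF k) (ptF k hk))
  rw [Nat.card_prod] at h
  rw [← h]
  refine congrArg _ (Nat.card_congr
    { toFun := fun m => ⟨m.val.val, (mem_grpF hk).2 ⟨((mem_grpF hk.le).1 m.val.2).1,
        fun i hi hi' => ?_⟩⟩
      invFun := fun m => ⟨⟨m.val, (mem_grpF hk.le).2 ⟨((mem_grpF hk).1 m.2).1,
        fun i hi hi' => ((mem_grpF hk).1 m.2).2 i (by omega) hi'⟩⟩,
        ((mem_grpF hk).1 m.2).2 k (Nat.lt_succ_self k) hk⟩
      left_inv := fun m => rfl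
      right_inv := fun m => rfl })
  rcases Nat.lt_succ_iff_lt_or_eq.1 hi with hi | rfl
  · exact ((mem_grpF hk.le).1 m.val.2).2 i hi hi'
  · exact m.2

theorem pt_fix {k : ℕ} (h7 : 7 ≤ k) (hk : k < 19) {g : Cfsg.Spor.Fi23} (hg : g ∈ grpF k) :
    g ∈ grpF (k + 1) := by
  refine (mem_grpF hk).2 ⟨((mem_grpF hk.le).1 hg).1, fun i hi hi' => ?_⟩
  rcases Nat.lt_succ_iff_lt_or_eq.1 hi with hi | rfl
  · exact ((mem_grpF hk.le).1 hg).2 i hi hi'
  · have h := List.all_eq_true.1 singles.1 (i - 7) (List.mem_range.2 (by omega))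
    rw [show 7 + (i - 7) = i by omega] at h
    exact cls_single hk.le hg _ (Nat.eq_of_beq_eq_true h)

theorem grpF_seven : grpF 7 = ⊥ := by
  rw [eq_bot_iff]
  intro g hg
  have up : ∀ j, j ≤ 12 → g ∈ grpF (7 + j) := by
    intro j
    induction j with
    | zero => exact fun _ => hg
    | succ j ih => exact fun hj => pt_fix (k := 7 + j) (by omega) (by omega) (ih (by omega))
  have h19 : g ∈ grpF 19 := up 12 le_rfl
  rw [← base_trivial, ← levels_count.2]
  intro p hp
  have h := List.all_eq_true.1 singles.2 _ hp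
  simp only [Bool.or_eq_true, List.any_eq_true, List.mem_range, Nat.beq_eq] at h
  rcases h with h | ⟨i, hi, e⟩
  · exact cls_single le_rfl h19 p h
  · rw [show p = ptF i hi from Fin.ext e.symm]
    exact ((mem_grpF le_rfl).1 h19).2 i hi hi

theorem level_mem {k : ℕ} (hk : k < 6) :
    let l := mLevels.getD k ⟨0, [], [], []⟩
    cls k (pt k).x = orBits l.pts ∧ l.base = (pt k).x ∧ l.pts.Nodup ∧
      ∀ q ∈ l.pts, q < tab.n ∧ ∃ g ∈ grpF k, (phi g (ptF k (by omega))).val = q := by
  intro l
  have h := List.all_eq_true.1 level_shape.2 k (List.mem_range.2 hk)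
  simp only [Bool.and_eq_true, Nat.beq_eq] at h
  obtain ⟨⟨h1, h2⟩, h3⟩ := h
  have hspec := Fast.level_spec (φ := phi) realised h3
  have hkeep := List.all_eq_true.1 (List.all_eq_true.1 level_keeps k (List.mem_range.2 hk))
  simp only [Fast.levelOk, Bool.and_eq_true, List.all_eq_true, Nat.blt_eq,
    decide_eq_true_eq] at h3
  obtain ⟨⟨⟨⟨⟨-, -⟩, -⟩, -⟩, hlt⟩, hnd⟩ := h3
  have hwS : ∀ fu j, act fiGen (l.word fu j) ∈ grpM := by
    intro fu
    induction fu with
    | zero => intro j; simp [Fast.Level.word, act_nil]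
    | succ fu ih =>
      intro j
      simp only [Fast.Level.word]
      split_ifs
      · simp [act_nil]
      · rw [act_append]
        refine Subgroup.mul_mem _ ?_ (ih _)
        by_cases hc : (l.par.getD (j - 1) (0, 0)).1 < l.gens.length
        · rw [List.getD_eq_getElem _ _ hc]
          exact (kept_grpM ((hkeep _ (List.getElem_mem hc)))).1
        · rw [List.getD_eq_default _ _ (Nat.le_of_not_lt hc), act_nil]
          exact Subgroup.one_mem _
  refine ⟨h1, h2, (Fast.nodupB_spec hnd).1, fun q hq => ⟨hlt q hq, ?_⟩⟩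
  obtain ⟨j, hj, e⟩ := List.getElem_of_mem hq
  obtain ⟨w1, w2, w3⟩ := hspec j hj (j + 1) (Nat.lt_succ_self _)
  refine ⟨_, Subgroup.mem_inf.2 ⟨hwS (j + 1) j, w2⟩, ?_⟩
  rw [realised.act_apply w1]
  show tab.walk (pt k).x _ = q
  rw [← h2, w3, List.getD_eq_getElem _ _ hj, e]

theorem orbit_le {k : ℕ} (hk : k < 19) {L : List ℕ} (hL : cls k (pt k).x = orBits L)
    (hself : (cls k (pt k).x).testBit (pt k).x = true) :
    letI : MulAction (grpF k) (Fin tab.n) := MulAction.compHom _ (phi.comp (grpF k).subtype)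
    Nat.card (MulAction.orbit (grpF k) (ptF k hk)) ≤ L.length := by
  classical
  letI : MulAction (grpF k) (Fin tab.n) := MulAction.compHom _ (phi.comp (grpF k).subtype)
  refine le_trans (Nat.card_le_card_of_injective (β := {x // x ∈ L.toFinset})
    (fun q => ⟨q.val.val, ?_⟩) ?_) (by rw [Nat.card_eq_fintype_card, Fintype.card_coe]; exact L.toFinset_card_le)
  · obtain ⟨g, hg⟩ := q.2
    rw [← hg, List.mem_toFinset]
    rw [hL, testBit_orBits] at hself
    exact cls_images hk.le g.2 (ptF k hk) hL hself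
  · intro a b e
    exact Subtype.ext (Fin.ext (congrArg Subtype.val e))

theorem self_all : (List.range 7).all (fun k => (cls k (pt k).x).testBit (pt k).x) = true ∧
    (List.range 6).map (fun k => (mLevels.getD k ⟨0, [], [], []⟩).pts.length) =
      [324, 27, 288, 18, 8, 3] := by
  decide +kernel

theorem card_level {k : ℕ} (hk : k < 6) : Nat.card (grpF k) =
    ([324, 27, 288, 18, 8, 3] : List ℕ).getD k 0 * Nat.card (grpF (k + 1)) := by
  classical
  letI : MulAction (grpF k) (Fin tab.n) := MulAction.compHom _ (phi.comp (grpF k).subtype)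
  rw [grpF_step (by omega : k < 19)]
  congr 1
  obtain ⟨h1, -, hnd, hreach⟩ := level_mem hk
  rw [show ([324, 27, 288, 18, 8, 3] : List ℕ).getD k 0 =
    (mLevels.getD k ⟨0, [], [], []⟩).pts.length by
      rw [← self_all.2, List.getD_eq_getElem _ _ (by simpa using hk)]; simp]
  refine le_antisymm (orbit_le (by omega) h1
    (List.all_eq_true.1 self_all.1 k (List.mem_range.2 (by omega)))) ?_
  rw [← List.toFinset_card_of_nodup hnd, ← Nat.card_eq_finsetCard]
  refine Nat.card_le_card_of_injective (fun q => ⟨⟨q.val, (hreach _ (by simpa using q.2)).1⟩, ?_⟩)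
    fun a b e => Subtype.ext (congrArg (fun z : MulAction.orbit (grpF k) _ => z.val.val) e)
  obtain ⟨g, hg, e⟩ := (hreach _ (by simpa using q.2)).2
  exact ⟨⟨g, hg⟩, Fin.ext e⟩

theorem card_six : Nat.card (grpF 6) = 3 ∨ Nat.card (grpF 6) = 6 := by
  haveI := card_fi.1
  letI : MulAction (grpF 6) (Fin tab.n) := MulAction.compHom _ (phi.comp (grpF 6).subtype)
  have h := grpF_step (k := 6) (by norm_num)
  rw [grpF_seven, Subgroup.card_bot, mul_one] at h
  have hle := orbit_le (k := 6) (by norm_num) (Nat.eq_of_beq_eq_true six_class.1)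
    (List.all_eq_true.1 self_all.1 6 (List.mem_range.2 (by norm_num)))
  rw [of_decide_eq_true six_class.2, ← h] at hle
  obtain ⟨hk3, hfix, hcube, hne⟩ := three_word
  obtain ⟨hM, hl⟩ := kept_grpM (hk3)
  have hmem : act fiGen wordThree ∈ grpF 6 := (mem_grpF (by norm_num)).2 ⟨hM, fun i hi hi' => by
    refine Fin.ext ?_
    rw [realised.act_apply hl, ← fwalk_eq]
    exact Nat.eq_of_beq_eq_true (List.all_eq_true.1 hfix i (List.mem_range.2 hi))⟩
  have h3 : orderOf (⟨act fiGen wordThree, hmem⟩ : grpF 6) = 3 := by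
    haveI : Fact (Nat.Prime 3) := ⟨Nat.prime_three⟩
    refine orderOf_eq_prime (Subtype.ext ?_) fun e => ?_
    · rw [SubmonoidClass.coe_pow, OneMemClass.coe_one, pow_three]
      have := eq_of_base hcube
      rwa [act_append, act_append, act_nil] at this
    · have e' : act fiGen wordThree = 1 := congrArg Subtype.val e
      have hs : sameBase wordThree [] = true := by
        simp only [sameBase, Bool.and_eq_true, List.all_eq_true, Nat.beq_eq, Nat.blt_eq]
        refine ⟨⟨fun b hb => ?_, hl⟩, fun g hg => absurd hg List.not_mem_nil⟩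
        have hb2 : b < tab.n := by
          have h' : baseL.all (fun b => Nat.blt b tab.n) = true := by decide +kernel
          exact Nat.blt_eq.mp (List.all_eq_true.1 h' b hb)
        have := congrArg (fun z => ((phi z ⟨b, hb2⟩ : Fin tab.n) : ℕ)) e'
        simpa [realised.act_apply hl, Fast.Tab.walk] using this
      rw [hs] at hne
      exact Bool.noConfusion hne
  have hd := orderOf_dvd_natCard (⟨act fiGen wordThree, hmem⟩ : grpF 6)
  rw [h3] at hd
  have hp : 0 < Nat.card (grpF 6) := Nat.card_pos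
  omega

theorem grpF_zero : grpF 0 = grpM := by
  ext g
  rw [mem_grpF (by norm_num)]
  exact ⟨fun h => h.1, fun h => ⟨h, fun i hi => absurd hi (Nat.not_lt_zero i)⟩⟩

theorem grpM_solvable : Group.IsSolvable grpM := by
  haveI := card_fi.1
  have hc : Nat.card grpM = 1088391168 * Nat.card (grpF 6) := by
    rw [← grpF_zero, card_level (by norm_num : 0 < 6), card_level (by norm_num : 1 < 6),
      card_level (by norm_num : 2 < 6), card_level (by norm_num : 3 < 6),
      card_level (by norm_num : 4 < 6), card_level (by norm_num : 5 < 6)]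
    simp only [List.getD_cons_zero, List.getD_cons_succ, ← mul_assoc]
    norm_num
  rcases card_six with h | h
  · exact Cfsg.Agent.S0144.result 2 3 11 13 Nat.prime_two Nat.prime_three (by rw [hc, h]; norm_num)
  · exact Cfsg.Agent.S0144.result 2 3 12 13 Nat.prime_two Nat.prime_three (by rw [hc, h]; norm_num)

end CfsgLib.Fi23P.NThree
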