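import Cfsg.Agent.Lib.Fi23P.PermDefs

/-!
A maximal subgroup of derived length ten in the Fischer group: shapes of the data.
-/

set_option autoImplicit false

namespace CfsgLib.Fi23P.NThree

/-- A word from its code, four bits a letter. -/
def wd (len n : ℕ) : List ℕ :=
  (List.range len).map fun i => Nat.land (Nat.shiftRight n (Nat.mul 4 i)) 15

/-- A point, a path to it and the bit set of the points its transposition fixes. -/
structure Pt where
  /-- The point. -/
  x : ℕ
  /-- The path from the first point. -/
  path : List ℕ
  /-- The fixed points of the transposition. -/
  bits : ℕ

end CfsgLib.Fi23P.NThree
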