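import Cfsg.Agent.Lib.Fi23P.NThree.Checks

/-!
Kernel checks of the edges.
-/

set_option autoImplicit false
set_option maxRecDepth 100000

namespace CfsgLib.Fi23P.NThree

theorem edge_0 : (List.range 4).all (fun i => edgeBlock (0 + i)) = true := by
  decide +kernel

theorem edge_1 : (List.range 4).all (fun i => edgeBlock (4 + i)) = true := by
  decide +kernel

theorem edge_2 : (List.range 4).all (fun i => edgeBlock (8 + i)) = true := by
  decide +kernel

theorem edge_3 : (List.range 4).all (fun i => edgeBlock (12 + i)) = true := by
  decide +kernel

theorem edge_4 : (List.range 4).all (fun i => edgeBlock (16 + i)) = true := by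
  decide +kernel

theorem edge_5 : (List.range 4).all (fun i => edgeBlock (20 + i)) = true := by
  decide +kernel

theorem edge_6 : (List.range 4).all (fun i => edgeBlock (24 + i)) = true := by
  decide +kernel

theorem edge_7 : (List.range 4).all (fun i => edgeBlock (28 + i)) = true := by
  decide +kernel

end CfsgLib.Fi23P.NThree
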