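import Cfsg.Agent.Lib.Fi23P.NThree.Checks

/-!
Generated data: words keeping the set.
-/

set_option autoImplicit false
set_option maxRecDepth 100000

namespace CfsgLib.Fi23P.NThree

/-- A word keeping the set. -/
def kWord0 : List ℕ := [4, 3, 4, 5, 6, 0, 8, 2, 3, 2, 8, 3, 1, 0, 2, 3, 9, 8, 3, 2, 4, 3, 5, 8, 9, 4, 6, 5, 3, 4, 2, 3, 8, 9, 8, 4, 3, 2, 0, 1, 5, 4, 3, 5, 6, 4, 5, 6, 8, 2, 4, 0, 3, 2, 8, 6, 5, 4, 3, 1, 0, 2, 1, 3, 2, 4, 8, 9, 8, 3, 2, 4, 3, 5, 4, 8, 3, 2, 8, 5, 6, 4, 5, 3, 4, 2, 3, 8, 9, 2, 3, 1, 2, 0, 1, 3, 4, 5, 1, 0, 2, 1, 3, 2, 4, 3, 9, 8, 3, 9, 3, 8, 9, 3, 4, 2, 3, 1, 2, 0, 1, 6, 5, 4, 3, 5, 6, 4, 5, 6, 5, 2, 0,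 3, 8, 5, 4, 6, 5, 8, 1, 2, 3, 4, 8, 3, 2, 1, 9, 8, 3, 4, 2, 3, 8, 9, 0, 5, 4, 6, 5, 2, 9, 8, 3, 2, 4, 3, 8, 9, 1, 2, 3, 8, 4, 3, 2, 1, 2, 8, 1, 0, 2, 3, 9, 8, 3, 2, 4, 3, 5, 8, 9, 4, 6, 5, 3, 4, 2, 3, 8, 9, 8, 4, 3, 2, 0, 1, 1, 0, 2, 1, 3, 4, 5, 8, 9, 8, 3, 2, 1, 4, 3, 8, 7, 6, 5, 4, 3, 2, 1, 0, 8, 3, 2, 1, 4, 3, 2, 5, 9, 8, 3, 2, 1, 4, 3, 2, 5, 4, 3, 6, 5, 4, 8, 3, 2, 4, 5, 9, 8, 3, 2, 1, 0, 4, 3, 2]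

/-- A word keeping the set. -/
def kWord1 : List ℕ := [8, 2, 1, 0, 2, 1, 3, 2, 4, 3, 9, 8, 3, 9, 3, 8, 9, 3, 4, 2, 3, 1, 2, 0, 1, 3, 4, 2, 1, 0, 2, 3, 8, 9, 8, 3, 2, 1, 0, 4, 3, 2, 5, 4, 8, 6, 5, 2, 3, 4, 1, 2, 3, 8, 9, 8, 3, 2, 0, 1, 4, 3, 8, 5, 4, 3, 2, 5, 6, 3, 4, 0, 8, 2, 4, 2, 3, 0, 4, 9, 8, 3, 2, 4, 3, 8, 9, 1, 2, 3, 8, 4, 3, 2, 1, 0, 5, 9, 8, 3, 2, 4, 3, 8, 9, 1, 2, 3, 8, 4, 3, 2, 1, 0, 2, 1, 0, 2, 3, 9, 8, 3, 2, 4, 3, 5, 8, 9, 4, 6, 5, 3, 4, 2, 3, 8, 9, 8, 4, 3, 2, 0, 1, 2, 3, 0, 8, 3, 2, 1, 0, 2, 3, 4, 8, 9, 8, 3, 2, 4, 3, 5, 6, 4, 9, 8, 5, 3, 4, 2, 3, 8, 9, 3, 2, 0, 1, 2, 1, 0, 2, 1, 3, 4, 5, 8, 9, 8, 3, 2, 1, 4, 3,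 2, 5, 4, 3, 6, 4, 5, 3, 4, 0, 1, 2, 3, 8, 9, 4, 3, 1, 2, 0, 1, 6, 5, 0, 9, 8, 3, 2, 4, 3, 8, 9, 1, 2, 3, 8, 4, 3, 2, 1, 5, 0, 9, 8, 3, 2, 4, 3, 8, 9, 1, 2, 3, 8, 4, 3, 2, 1, 5, 4, 3, 3, 8, 3, 1, 2, 3, 4, 8, 3, 2, 1, 9, 8, 3, 4, 2, 3, 8, 9, 4, 8, 3, 2, 4, 2, 8, 3, 2, 1, 0, 2, 1, 3, 2, 4, 3, 9, 8, 3, 9, 3, 8, 9, 3, 4, 2, 3, 1, 2, 0, 1, 1, 2, 3, 4, 9, 8, 3, 2, 4, 5]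

/-- A word keeping the set. -/
def kWord2 : List ℕ := [0, 1, 0, 2, 1, 3, 2, 4, 5, 6, 9, 8, 3, 2, 1, 0, 4, 3, 8, 2, 3, 4, 1, 2, 3, 8, 9, 6, 5, 4, 3, 1, 2, 0, 1, 6, 0, 5, 4, 3, 2, 4, 1, 0, 2, 3, 4, 8, 9, 8, 3, 2, 4, 3, 5, 6, 4, 9, 8, 5, 3, 4, 2, 3, 8, 9, 3, 2, 0, 1, 2, 3, 4, 5, 6, 4, 3, 4, 5, 6, 0, 8, 2, 3, 2, 8, 3, 1, 0, 2, 3, 9, 8, 3, 2, 4, 3, 5, 8, 9, 4, 6, 5, 3, 4, 2, 3, 8, 9, 8, 4, 3, 2, 0, 1, 5, 4, 3, 5, 6, 4, 5, 6, 8, 2, 4, 0, 3, 2, 8, 6, 5, 4, 3, 5, 4, 2, 1, 2, 3, 4, 8, 3, 2, 1, 9, 8, 3, 4, 2, 3, 8, 9, 2, 0, 5, 6, 4, 5, 4, 2, 1, 0, 2, 1, 3, 2, 4, 3, 9, 8, 3, 9, 3, 8, 9, 3, 4, 2, 3, 1, 2, 0, 1, 0, 5, 4, 6, 5, 9, 8, 3, 2,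 4, 3, 8, 9, 1, 2, 3, 8, 4, 3, 2, 1, 2, 3, 1, 2, 3, 4, 8, 3, 2, 1, 9, 8, 3, 4, 2, 3, 8, 9, 2, 3, 4, 6, 8, 3, 2, 5, 4, 3, 4, 5, 4, 6, 4, 5, 2, 1, 2, 3, 4, 8, 3, 2, 1, 9, 8, 3, 4, 2, 3, 8, 9, 2, 0, 5, 6, 4, 5, 4, 6, 1, 0, 2, 1, 3, 2, 4, 8, 9, 8, 3, 2, 1, 4, 3, 5, 4, 6, 7, 6, 5, 4, 3, 2, 1, 0, 8, 3, 2, 1, 4, 3, 5, 9, 8, 3, 2, 1, 4, 3, 2, 5, 4, 6, 5, 8, 3, 2, 4, 3, 5, 6, 8, 9, 8, 3, 2, 1, 0]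

/-- A word keeping the set. -/
def kWord3 : List ℕ := [0, 1, 0, 2, 1, 3, 2, 4, 5, 6, 9, 8, 3, 2, 1, 0, 4, 3, 8, 2, 3, 4, 1, 2, 3, 8, 9, 6, 5, 4, 3, 1, 2, 0, 1, 6, 0, 5, 4, 3, 2, 4, 1, 0, 2, 3, 4, 8, 9, 8, 3, 2, 4, 3, 5, 6, 4, 9, 8, 5, 3, 4, 2, 3, 8, 9, 3, 2, 0, 1, 2, 3, 4, 5, 6, 4, 4, 5, 8, 4, 1, 2, 3, 4, 8, 3, 2, 1, 9, 8, 3, 4, 2, 3, 8, 9, 1, 2, 3, 4, 8, 3, 2, 1, 9, 8, 3, 4, 2, 3, 8, 9, 5, 6, 4, 5, 3, 4, 5, 9, 8, 3, 2, 4, 3, 8, 9, 1, 2, 3, 8, 4, 3, 2, 1, 2, 0, 3, 1, 2, 3, 4, 8, 3, 2, 1, 9, 8, 3, 4, 2, 3, 8, 9, 0, 8, 5, 4, 3, 2, 6, 5, 4, 9, 8, 3, 2, 4, 3, 8, 9, 1, 2, 3, 8, 4, 3, 2, 1, 8, 0, 4, 5, 2, 1, 2, 3, 4, 8, 3, 2, 1, 9,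 8, 3, 4, 2, 3, 8, 9, 2, 0, 5, 6, 4, 5, 4, 2, 1, 0, 2, 1, 3, 2, 4, 3, 9, 8, 3, 9, 3, 8, 9, 3, 4, 2, 3, 1, 2, 0, 1, 0, 5, 4, 6, 5, 9, 8, 3, 2, 4, 3, 8, 9, 1, 2, 3, 8, 4, 3, 2, 1, 2, 5, 1, 2, 3, 4, 8, 3, 2, 1, 9, 8, 3, 4, 2, 3, 8, 9, 5, 4, 6, 5, 0, 1, 2, 3, 4, 8, 3, 2, 1, 9, 8, 3, 4, 2, 3, 8, 9, 5, 9, 8, 3, 2, 4, 3, 8, 9, 1, 2, 3, 8, 4, 3, 2, 1, 0, 5, 4, 6, 5, 9, 8, 3, 2, 4, 3, 8, 9, 1, 2, 3, 8, 4, 3, 2, 1, 4, 3, 2, 0, 1, 0, 2, 3, 9, 8, 3, 2, 4, 3, 5, 8, 9, 4, 6, 5, 3, 4, 2, 3, 8, 9, 8, 4, 3, 2, 0, 1, 6, 5, 4, 3, 0, 2, 2, 3, 8, 4]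

/-- A word keeping the set. -/
def kWord4 : List ℕ := [3, 1, 0, 2, 3, 9, 8, 3, 2, 4, 3, 5, 8, 9, 4, 6, 5, 3, 4, 2, 3, 8, 9, 8, 4, 3, 2, 0, 1, 5, 4, 3, 5, 6, 4, 5, 6, 6, 5, 6, 3, 4, 5, 6, 2, 3, 1, 0, 2, 3, 9, 8, 3, 2, 4, 3, 5, 8, 9, 4, 6, 5, 3, 4, 2, 3, 8, 9, 8, 4, 3, 2, 0, 1, 5]

/-- A word keeping the set. -/
def kWord5 : List ℕ := [2, 3, 8, 2, 3, 1, 0, 2, 3, 9, 8, 3, 2, 4, 3, 5, 8, 9, 4, 6, 5, 3, 4, 2, 3, 8, 9, 8, 4, 3, 2, 0, 1, 4, 5, 4, 3, 8, 2, 6, 4, 5, 4, 8, 3, 2, 8, 4, 5, 6, 2, 3, 4, 5, 8, 3, 4, 1, 0, 2, 3, 8, 9, 8, 3, 2, 1, 4, 3, 2, 5, 6, 8, 4, 5, 2, 3, 4, 0, 1, 2, 3, 8, 9, 8, 3, 2, 0, 1, 2, 6, 3, 1, 2, 3, 4, 8, 3, 2,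 1, 9, 8, 3, 4, 2, 3, 8, 9, 8, 1, 2, 3, 4, 8, 3, 2, 1, 9, 8, 3, 4, 2, 3, 8, 9, 4, 5, 6, 4, 5, 3, 4, 5, 9, 8, 3, 2, 4, 3, 8, 9, 1, 2, 3, 8, 4, 3, 2, 1, 4, 3, 5, 6, 4, 5, 5, 1, 2, 3, 4, 8, 3, 2, 1, 9, 8, 3, 4, 2, 3, 8, 9, 5, 2, 1, 2, 3, 4, 8, 3, 2, 1, 9, 8, 3, 4, 2, 3, 8, 9, 0, 2, 3, 0, 8, 2, 5, 4, 3, 8, 4, 2, 1, 2, 3, 4, 8, 3, 2, 1, 9, 8, 3, 4, 2, 3, 8, 9, 2, 5, 4, 6]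

/-- A word keeping the set. -/
def kWord6 : List ℕ := [2, 3, 8, 2, 3, 1, 0, 2, 3, 9, 8, 3, 2, 4, 3, 5, 8, 9, 4, 6, 5, 3, 4, 2, 3, 8, 9, 8, 4, 3, 2, 0, 1, 4, 5, 4, 3, 8, 2, 6, 4, 5, 4, 8, 3, 2, 8, 4, 5, 6, 2, 3, 4, 5, 8, 3, 4, 1, 0, 2, 3, 8, 9, 8, 3, 2, 1, 4, 3, 2, 5, 6, 8, 4, 5, 2, 3, 4, 0, 1, 2, 3, 8, 9, 8, 3, 2, 0, 1, 2, 6, 2, 8, 3, 1, 0, 2, 3, 9, 8, 3, 2, 4, 3, 5, 8, 9, 4, 6, 5, 3, 4, 2, 3, 8, 9, 8, 4, 3, 2, 0, 1, 5, 4, 3, 5, 6, 4, 5, 6, 8, 2, 3, 4, 5, 6, 3, 8, 3, 1, 2, 3, 4, 8, 3, 2, 1, 9, 8, 3, 4, 2, 3, 8, 9, 4, 8, 3, 2, 3, 4, 5, 2, 3, 8, 4, 9, 8, 3, 2, 4, 3, 8, 9, 1, 2, 3, 8, 4, 3, 2, 1, 3, 8, 3, 6, 5, 4, 3, 8, 3, 4, 1,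 2, 3, 4, 8, 3, 2, 1, 9, 8, 3, 4, 2, 3, 8, 9, 4, 3, 2, 5, 4, 2, 8, 1, 0, 2, 3, 9, 8, 3, 2, 4, 3, 5, 8, 9, 4, 6, 5, 3, 4, 2, 3, 8, 9, 8, 4, 3, 2, 0, 1, 2, 6]

/-- A word keeping the set. -/
def kWord7 : List ℕ := [0, 1, 0, 2, 1, 3, 2, 4, 5, 6, 9, 8, 3, 2, 1, 0, 4, 3, 8, 2, 3, 4, 1, 2, 3, 8, 9, 6, 5, 4, 3, 1, 2, 0, 1, 6, 0, 5, 4, 3, 2, 4, 1, 0, 2, 3, 4, 8, 9, 8, 3, 2, 4, 3, 5, 6, 4, 9, 8, 5, 3, 4, 2, 3, 8, 9, 3, 2, 0, 1, 2, 3, 4, 5, 6, 4, 4, 8, 2, 1, 0, 2, 1, 3, 2, 4, 3, 9, 8, 3, 9, 3, 8, 9, 3, 4, 2, 3, 1, 2, 0, 1, 3, 4, 2, 1, 0, 2, 3, 8, 9, 8, 3, 2, 1, 0, 4, 3, 2, 5, 4, 8, 6, 5, 2, 3, 4, 1, 2, 3, 8, 9, 8, 3, 2, 0, 1, 4, 3, 8, 5,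 4, 3, 2, 5, 6, 3, 4, 0, 8, 2, 4, 2, 3, 0, 4, 9, 8, 3, 2, 4, 3, 8, 9, 1, 2, 3, 8, 4, 3, 2, 1, 0, 5, 9, 8, 3, 2, 4, 3, 8, 9, 1, 2, 3, 8, 4, 3, 2, 1, 0, 2, 8, 3, 1, 0, 2, 3, 9, 8, 3, 2, 4, 3, 5, 8, 9, 4, 6, 5, 3, 4, 2, 3, 8, 9, 8, 4, 3, 2, 0, 1, 5, 4, 3, 5, 6, 4, 5, 6, 8, 2, 5, 6, 1, 2, 3, 4, 8, 3, 2, 1, 9, 8, 3, 4, 2, 3, 8, 9, 5, 4, 1, 0, 2, 1, 3, 2, 4, 3, 9, 8, 3, 9, 3, 8, 9, 3, 4, 2, 3, 1, 2, 0, 1, 5, 0, 2, 3, 8, 3, 1, 2, 3, 4, 8, 3, 2, 1, 9, 8, 3, 4, 2, 3, 8, 9, 4, 8, 3, 2, 4, 5, 4, 4, 3, 8, 2, 5, 4, 3, 5, 3, 8, 2, 3, 1, 0, 2, 3, 9, 8, 3, 2, 4, 3, 5, 8, 9, 4, 6, 5, 3, 4, 2, 3, 8, 9, 8, 4, 3, 2, 0, 1, 4, 5, 4, 3, 8, 2, 6, 4, 5,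 8, 2, 0, 1, 2, 3, 4, 8, 3, 2, 1, 9, 8, 3, 4, 2, 3, 8, 9, 5]

/-- A word keeping the set. -/
def kWord8 : List ℕ := [5, 4, 6, 3, 4, 5, 6, 3, 8, 3, 1, 2, 3, 4, 8, 3, 2, 1, 9, 8, 3, 4, 2, 3, 8, 9, 4, 8, 3, 2, 3, 4, 5, 2, 3, 8, 4, 9, 8, 3, 2, 4, 3, 8, 9, 1, 2, 3, 8, 4, 3, 2, 1, 3, 8, 3, 6, 5, 4, 3, 5, 6, 4, 5, 3, 4, 5, 6, 3, 8, 3, 1, 2, 3, 4, 8, 3, 2, 1, 9, 8, 3, 4, 2, 3, 8, 9, 4, 8, 3, 2, 3, 4, 5, 2, 3, 8, 4, 9, 8, 3, 2, 4, 3, 8, 9, 1, 2, 3, 8, 4, 3, 2, 1, 3, 8, 3, 6, 5, 4, 3, 5, 4, 6, 8, 2, 3, 8, 4, 1, 2, 3, 4, 8, 3, 2, 1, 9, 8, 3, 4, 2, 3, 8, 9, 5, 1, 2, 3, 4, 8, 3, 2, 1, 9, 8, 3, 4, 2, 3, 8, 9, 6, 5, 4, 3, 4, 8, 3, 2, 8, 3, 3,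 1, 2, 3, 4, 8, 3, 2, 1, 9, 8, 3, 4, 2, 3, 8, 9, 2, 3, 4, 6, 8, 3, 2, 5, 4, 3, 4, 5, 4, 6, 5, 4, 6]

/-- A word keeping the set. -/
def kWord9 : List ℕ := [2, 3, 8, 2, 3, 1, 0, 2, 3, 9, 8, 3, 2, 4, 3, 5, 8, 9, 4, 6, 5, 3, 4, 2, 3, 8, 9, 8, 4, 3, 2, 0, 1, 4, 5, 4, 3, 8, 2, 6, 4, 5, 4, 8, 3, 2, 8, 4, 5, 6, 2, 3, 4, 5, 8, 3, 4, 1, 0, 2, 3, 8, 9, 8, 3, 2, 1, 4, 3, 2, 5, 6, 8, 4, 5, 2, 3, 4, 0, 1, 2, 3, 8, 9, 8, 3, 2, 0, 1, 2, 6, 6, 3, 4, 5, 6, 3, 8, 3, 1, 2, 3, 4, 8, 3, 2, 1, 9, 8, 3, 4, 2, 3, 8, 9, 4, 8, 3, 2, 3, 4, 5, 2, 3, 8, 4, 9, 8, 3, 2, 4, 3, 8, 9, 1, 2, 3, 8, 4, 3, 2, 1, 3, 8, 3, 6, 5, 4, 3, 8, 3, 4, 1, 2, 3, 4, 8, 3, 2, 1,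 9, 8, 3, 4, 2, 3, 8, 9, 4, 3, 2, 5, 4, 4, 6, 4, 2, 3, 8, 4]

/-- A word keeping the set. -/
def kWord10 : List ℕ := [0, 1, 0, 2, 1, 3, 2, 4, 5, 6, 9, 8, 3, 2, 1, 0, 4, 3, 8, 2, 3, 4, 1, 2, 3, 8, 9, 6, 5, 4, 3, 1, 2, 0, 1, 6, 0, 5, 4, 3, 2, 4, 1, 0, 2, 3, 4, 8, 9, 8, 3, 2, 4, 3, 5, 6, 4, 9, 8, 5, 3, 4, 2, 3, 8, 9, 3, 2, 0, 1, 2, 3, 4, 5, 6, 4, 4, 0, 1, 0, 2, 1, 3, 2, 4, 5, 6, 9, 8, 3, 2, 1, 0, 4, 3, 8, 2, 3, 4, 1, 2, 3, 8, 9, 6, 5, 4, 3, 1, 2, 0, 1, 4, 5, 1, 2, 3, 4, 8, 3, 2, 1, 9, 8, 3, 4, 2, 3, 8, 9, 5, 4, 3, 2, 4, 6, 5, 4, 2, 3, 0, 4, 9, 8, 3, 2, 4, 3, 8, 9, 1, 2, 3, 8, 4, 3, 2, 1, 0, 5, 9, 8, 3, 2, 4, 3, 8, 9, 1, 2, 3, 8, 4,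 3, 2, 1, 0, 6, 5, 5, 4, 6, 8, 3, 0, 4, 5, 4, 6, 1, 0, 2, 3, 4, 8, 9, 8, 3, 2, 4, 3, 5, 6, 4, 9, 8, 5, 3, 4, 2, 3, 8, 9, 3, 2, 0, 1, 8, 0, 2, 8, 1, 2, 3, 4, 8, 3, 2, 1, 9, 8, 3, 4, 2, 3, 8, 9, 5, 4, 6, 5, 0, 1, 2, 3, 4, 8, 3, 2, 1, 9, 8, 3, 4, 2, 3, 8, 9, 5, 9, 8, 3, 2, 4, 3, 8, 9, 1, 2, 3, 8, 4, 3, 2, 1, 0, 5, 4, 6, 5, 9, 8, 3, 2, 4, 3, 8, 9, 1, 2, 3, 8, 4, 3, 2, 1, 8, 2, 5, 4, 8, 3, 1, 0, 2, 1, 3, 2, 4, 8, 9, 8, 3, 2, 4, 3, 5, 4, 8, 3, 2, 8, 5, 6, 4, 5, 3, 4, 2, 3, 8, 9, 2, 3, 1, 2, 0, 1, 2, 1, 0, 2, 3, 4, 8, 9, 8, 3, 2, 4, 3, 5, 6, 4, 9, 8, 5, 3, 4, 2, 3, 8, 9, 3, 2, 0, 1, 2, 0, 8, 6, 5, 4, 3, 4, 5, 2, 3, 4, 5, 2, 3, 8, 4, 0,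 2, 1, 0, 2, 1, 3, 2, 4, 3, 9, 8, 3, 9, 3, 8, 9, 3, 4, 2, 3, 1, 2, 0, 1, 3, 4, 5, 9, 8, 3, 2, 4, 3, 8, 9, 1, 2, 3, 8, 4, 3, 2, 1, 5, 6, 4, 1, 0, 2, 1, 3, 2, 4, 3, 9, 8, 3, 9, 3, 8, 9, 3, 4, 2, 3, 1, 2, 0, 1, 5, 6, 2, 0, 3, 8, 1, 0, 2, 1, 3, 9, 8, 3, 2, 1, 4, 3, 2, 8, 3, 4, 5, 7, 6, 5, 4, 3, 2, 1, 0, 8, 3, 2, 1, 4, 3, 5, 4, 9, 8, 3, 2, 1, 4, 3, 2, 5, 4, 3, 6, 5, 7, 8, 3, 2, 1, 4, 9, 8, 3, 2, 1, 0, 4]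

/-- A word keeping the set. -/
def kWord11 : List ℕ := [0, 1, 0, 2, 1, 3, 2, 4, 5, 6, 9, 8, 3, 2, 1, 0, 4, 3, 8, 2, 3, 4, 1, 2, 3, 8, 9, 6, 5, 4, 3, 1, 2, 0, 1, 6, 0, 5, 4, 3, 2, 4, 1, 0, 2, 3, 4, 8, 9, 8, 3, 2, 4, 3, 5, 6, 4, 9, 8, 5, 3, 4, 2, 3, 8, 9, 3, 2, 0, 1, 2, 3, 4, 5, 6, 4, 4, 8, 3, 8, 3, 1, 2, 3, 4, 8, 3, 2, 1, 9, 8, 3, 4, 2, 3, 8, 9, 4, 8, 3, 2, 4, 5, 4, 2, 9, 8, 3, 2, 4, 3, 8, 9, 1, 2, 3, 8, 4, 3, 2, 1, 3, 2, 8, 6, 2, 0, 1, 0, 2, 3, 9, 8, 3, 2, 4, 3, 5, 8, 9, 4, 6, 5, 3, 4, 2, 3, 8, 9, 8, 4, 3, 2, 0, 1, 0, 6, 5, 4, 3, 2, 5, 6, 4, 5, 4, 3, 4, 2, 3, 4, 5, 8, 3, 4, 1, 0, 2, 3, 8, 9, 8, 3, 2, 1, 4, 3, 2, 5, 6, 8, 4, 5,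 2, 3, 4, 0, 1, 2, 3, 8, 9, 8, 3, 2, 0, 1, 2, 4, 3, 6, 1, 0, 2, 1, 3, 2, 4, 3, 9, 8, 3, 9, 3, 8, 9, 3, 4, 2, 3, 1, 2, 0, 1, 0, 5, 8, 4, 6, 5, 1, 0, 2, 1, 3, 2, 4, 3, 9, 8, 3, 9, 3, 8, 9, 3, 4, 2, 3, 1, 2, 0, 1, 5, 6, 4, 5, 5, 1, 2, 3, 4, 8, 3, 2, 1, 9, 8, 3, 4, 2, 3, 8, 9, 5, 4, 6, 5, 0, 1, 2, 3, 4, 8, 3, 2, 1, 9, 8, 3, 4, 2, 3, 8, 9, 5, 9, 8, 3, 2, 4, 3, 8, 9, 1, 2, 3, 8, 4, 3, 2, 1, 0, 5, 4, 6, 5, 9, 8, 3, 2, 4, 3, 8, 9, 1, 2, 3, 8, 4, 3, 2, 1, 6, 8, 3, 0, 4, 1, 0, 2, 1, 3, 2, 4, 3, 9, 8, 3, 9, 3, 8, 9, 3, 4, 2, 3, 1, 2, 0, 1, 5, 8, 9, 8, 3, 2, 4, 3, 8, 9, 1, 2, 3, 8, 4, 3, 2, 1, 0, 4, 5, 4, 6, 4, 0, 1, 2, 3, 4, 8, 3, 2, 1, 9,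 8, 3, 4, 2, 3, 8, 9, 2, 3, 8, 1, 0, 2, 1, 9, 8, 3, 2, 4, 3, 5, 4, 8, 3, 2, 1, 9, 8, 3, 4, 7, 6, 5, 4, 3, 2, 1, 0, 8, 3, 2, 1, 4, 3, 2, 5, 8, 9, 8, 3, 2, 1, 4, 3, 2, 5, 4, 6, 5, 8, 3, 2, 4, 5, 9, 8, 3, 2, 1, 0]

/-- A word keeping the set. -/
def kWord12 : List ℕ := [4, 3, 4, 5, 6, 0, 8, 2, 3, 2, 8, 3, 1, 0, 2, 3, 9, 8, 3, 2, 4, 3, 5, 8, 9, 4, 6, 5, 3, 4, 2, 3, 8, 9, 8, 4, 3, 2, 0, 1, 5, 4, 3, 5, 6, 4, 5, 6, 8, 2, 4, 0, 3, 2, 8, 6, 5, 4, 3, 1, 0, 2, 1, 3, 2, 4, 8, 9, 8, 3, 2, 4, 3, 5, 4, 8, 3, 2, 8, 5, 6, 4, 5, 3, 4, 2, 3, 8, 9, 2, 3, 1, 2, 0, 1, 3, 4, 5, 1, 0, 2, 1, 3, 2, 4, 3, 9, 8, 3, 9, 3, 8, 9, 3, 4, 2, 3, 1, 2, 0, 1, 6, 5,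 4, 3, 5, 6, 4, 5, 5, 6, 2, 3, 1, 0, 2, 1, 3, 2, 4, 8, 9, 8, 3, 2, 4, 3, 5, 4, 8, 3, 2, 8, 5, 6, 4, 5, 3, 4, 2, 3, 8, 9, 2, 3, 1, 2, 0, 1, 6, 5, 4, 8, 3, 2, 2, 1, 0, 2, 1, 3, 2, 4, 3, 9, 8, 3, 9, 3, 8, 9, 3, 4, 2, 3, 1, 2, 0, 1, 5, 8, 3, 2, 8, 0, 1, 2, 3, 4, 9, 8, 3, 4, 7, 6, 5, 4, 3, 2, 1, 8, 3, 2, 4, 3, 5, 4, 6, 5, 9, 8, 3, 2, 4, 3, 5, 8]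

/-- A word keeping the set. -/
def kWord13 : List ℕ := [4, 8, 2, 3, 4, 1, 0, 2, 3, 8, 9, 8, 3, 2, 1, 0, 4, 3, 2, 5, 4, 8, 6, 5, 2, 3, 4, 1, 2, 3, 8, 9, 8, 3, 2, 0, 1, 4, 5, 3, 2, 8, 3, 4, 1, 0, 2, 1, 3, 2, 4, 5, 6, 9, 8, 3, 2, 1, 0, 4, 3, 8, 2, 3, 4, 1, 2, 3, 8, 9, 6, 5, 4, 3, 1, 2, 0, 1, 5, 4, 3, 2, 3, 6, 5, 4, 6, 0, 1, 2, 3, 4, 8, 3, 2, 1, 9, 8, 3, 4, 2, 3, 8, 9, 0, 1, 0, 2, 3, 4, 8, 9, 8, 3, 2, 4, 3, 5, 6, 4, 9, 8, 5, 3, 4, 2, 3, 8, 9, 3, 2, 0, 1, 1, 0, 2, 1, 3, 2, 4, 3, 9, 8, 3, 9, 3, 8, 9, 3, 4, 2, 3, 1, 2, 0, 1, 0, 3, 1, 2, 3, 4, 8, 3, 2, 1, 9, 8, 3, 4, 2, 3, 8, 9, 8, 1, 2, 3, 4, 8, 3, 2, 1, 9, 8, 3, 4, 2, 3, 8, 9, 4, 5,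 6, 4, 5, 3, 4, 5, 9, 8, 3, 2, 4, 3, 8, 9, 1, 2, 3, 8, 4, 3, 2, 1, 4, 3, 5, 6, 4, 5, 0, 1, 2, 3, 4, 8, 3, 2, 1, 9, 8, 3, 4, 2, 3, 8, 9, 5, 0, 1, 2, 3, 4, 8, 3, 2, 1, 9, 8, 3, 4, 2, 3, 8, 9, 4, 0, 3, 2, 5, 4, 1, 2, 3, 4, 8, 3, 2, 1, 9, 8, 3, 4, 2, 3, 8, 9, 4, 9, 8, 3, 2, 4, 3, 5, 8, 7, 6, 5, 4, 3, 2, 1, 0, 8, 3, 2, 1, 4, 3, 2, 5, 9, 8, 3, 2, 1, 4, 3, 2, 5, 4, 6, 5, 7, 8, 3, 2, 4, 3, 5, 6, 9, 8, 3, 2, 1, 0, 4]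

/-- A word keeping the set. -/
def kWord14 : List ℕ := [4, 2, 0, 1, 2, 3, 4, 8, 3, 2, 1, 9, 8, 3, 4, 2, 3, 8, 9, 5, 4, 6, 5, 0, 1, 2, 3, 4, 8, 3, 2, 1, 9, 8, 3, 4, 2, 3, 8, 9, 5, 9, 8, 3, 2, 4, 3, 8, 9, 1, 2, 3, 8, 4, 3, 2, 1, 0, 5, 4, 6, 5, 9, 8, 3, 2, 4, 3, 8, 9, 1, 2, 3, 8, 4, 3, 2, 1, 6, 0, 2, 6, 8, 2, 1, 0, 2, 1, 3, 2, 4, 3, 9, 8, 3, 9, 3, 8, 9, 3, 4, 2, 3, 1, 2, 0, 1, 3, 4, 2, 1, 0, 2, 3, 8, 9, 8, 3, 2, 1, 0, 4, 3, 2, 5, 4, 8, 6, 5, 2, 3, 4, 1, 2, 3, 8, 9, 8, 3, 2, 0, 1, 4, 3, 8, 5, 4, 3, 2, 5, 6, 3, 4, 0, 8, 2, 4, 2, 3, 0, 4, 9, 8, 3, 2, 4, 3, 8, 9, 1, 2, 3, 8, 4, 3, 2, 1, 0, 5, 9, 8, 3, 2, 4, 3, 8, 9, 1, 2, 3, 8, 4, 3,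 2, 1, 0, 2, 8, 1, 2, 3, 4, 8, 3, 2, 1, 9, 8, 3, 4, 2, 3, 8, 9, 5, 4, 6, 5, 0, 1, 2, 3, 4, 8, 3, 2, 1, 9, 8, 3, 4, 2, 3, 8, 9, 5, 9, 8, 3, 2, 4, 3, 8, 9, 1, 2, 3, 8, 4, 3, 2, 1, 0, 5, 4, 6, 5, 9, 8, 3, 2, 4, 3, 8, 9, 1, 2, 3, 8, 4, 3, 2, 1, 8, 2, 5, 4, 6, 8, 3, 1, 0, 2, 1, 3, 2, 4, 8, 9, 8, 3, 2, 4, 3, 5, 4, 8, 3, 2, 8, 5, 6, 4, 5, 3, 4, 2, 3, 8, 9, 2, 3, 1, 2, 0, 1, 2, 1, 0, 2, 3, 4, 8, 9, 8, 3, 2, 4, 3, 5, 6, 4, 9, 8, 5, 3, 4, 2, 3, 8, 9, 3, 2, 0, 1, 2, 0, 8, 6, 5, 4, 3, 4, 3, 1, 2, 3, 4, 8, 3, 2, 1, 9, 8, 3, 4, 2, 3, 8, 9, 2, 3, 4, 6, 8, 3, 2, 5, 4, 3, 4, 5, 4, 6, 4, 5, 4, 8, 3, 3, 1, 2, 3, 4, 8, 3, 2, 1, 9, 8, 3, 4, 2, 3, 8,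 9, 2, 3, 4, 6, 8, 3, 2, 5, 4, 3, 4, 5, 4, 6, 5, 4, 6, 1, 0, 2, 1, 3, 2, 9, 8, 3, 2, 4, 3, 5, 8, 7, 6, 5, 4, 3, 2, 1, 0, 8, 3, 2, 1, 4, 3, 2, 5, 6, 9, 8, 3, 2, 1, 0, 4, 3, 2, 5, 4, 3, 6, 5, 4, 8, 3, 2, 4, 5, 9, 8, 3, 2, 1, 0, 4]

/-- A word keeping the set. -/
def kWord15 : List ℕ := [1, 2, 3, 4, 5, 6, 8, 1, 2, 3, 4, 5, 6, 8, 1, 2, 3, 4, 5, 6, 8, 1, 2, 3, 4, 5, 6, 8, 1, 2, 3, 4, 5, 6, 8, 1, 2, 3, 4, 5, 6, 8, 1, 2, 3, 4, 5, 6, 8, 1, 2, 3, 4, 5, 6, 8, 1, 2, 3, 4, 5, 6, 8]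

/-- A word keeping the set. -/
def kWord16 : List ℕ := [7, 1, 2, 3, 4, 5, 6, 8, 1, 2, 3, 4, 5, 6, 8, 1, 2, 3, 4, 5, 6, 8, 1, 2, 3, 4, 5, 6, 8, 1, 2, 3, 4, 5, 6, 8, 1, 2, 3, 4, 5, 6, 8, 1, 2, 3, 4, 5, 6, 8, 1, 2, 3, 4, 5, 6, 8, 1, 2, 3, 4, 5, 6, 8, 7]

/-- A word keeping the set. -/
def kWord17 : List ℕ := [6, 7, 1, 2, 3, 4, 5, 6, 8, 1, 2, 3, 4, 5, 6, 8, 1, 2, 3, 4, 5, 6, 8, 1, 2, 3, 4, 5, 6, 8, 1, 2, 3, 4, 5, 6, 8, 1, 2, 3, 4, 5, 6, 8, 1, 2, 3, 4, 5, 6, 8, 1, 2, 3, 4, 5, 6, 8, 1, 2, 3, 4, 5, 6, 8, 7, 6]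

/-- A word keeping the set. -/
def kWord18 : List ℕ := [5, 4, 3, 8, 2, 3, 4, 5, 6, 7, 1, 2, 3, 4, 5, 6, 8, 1, 2, 3, 4, 5, 6, 8, 1, 2, 3, 4, 5, 6, 8, 1, 2, 3, 4, 5, 6, 8, 1, 2, 3, 4, 5, 6, 8, 1, 2, 3, 4, 5, 6, 8, 1, 2, 3, 4, 5, 6, 8, 1, 2, 3, 4, 5, 6, 8, 1, 2, 3, 4, 5, 6, 8, 7, 6, 5, 4, 3, 2, 8, 3, 4, 5]

/-- A word keeping the set. -/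
def kWord19 : List ℕ := [8, 9, 5, 4, 3, 8, 1, 2, 3, 4, 5, 6, 7, 1, 2, 3, 4, 5, 6, 8, 1, 2, 3, 4, 5, 6, 8, 1, 2, 3, 4, 5, 6, 8, 1, 2, 3, 4, 5, 6, 8, 1, 2, 3, 4, 5, 6, 8, 1, 2, 3, 4, 5, 6, 8, 1, 2, 3, 4, 5, 6, 8, 1, 2, 3, 4, 5, 6, 8, 1, 2, 3, 4, 5, 6, 8, 7, 6, 5, 4, 3, 2, 1, 8, 3, 4, 5, 9, 8]

/-- A word keeping the set. -/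
def kWord20 : List ℕ := [9, 4, 5, 3, 4, 2, 3, 8, 1, 2, 3, 4, 5, 6, 7, 1, 2, 3, 4, 5, 6, 8, 1, 2, 3, 4, 5, 6, 8, 1, 2, 3, 4, 5, 6, 8, 1, 2, 3, 4, 5, 6, 8, 1, 2, 3, 4, 5, 6, 8, 1, 2, 3, 4, 5, 6, 8, 1, 2, 3, 4, 5, 6, 8, 1, 2, 3, 4, 5, 6, 8, 1, 2, 3, 4, 5, 6, 8, 7, 6, 5, 4, 3, 2, 1, 8, 3, 2, 4, 3, 5, 4, 9]

/-- A word keeping the set. -/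
def kWord21 : List ℕ := [0, 1, 2, 3, 8, 9, 5, 4, 3, 8, 5, 6, 4, 5, 2, 3, 4, 1, 2, 3, 8, 9, 5, 3, 4, 1, 2, 3, 8, 0, 1, 2, 3, 4, 5, 6, 7, 1, 2, 3, 4, 5, 6, 8, 1, 2, 3, 4, 5, 6, 8, 1, 2, 3, 4, 5, 6, 8, 1, 2, 3, 4, 5, 6, 8, 1, 2, 3, 4, 5, 6, 8, 1, 2, 3, 4, 5, 6, 8, 1, 2, 3, 4, 5, 6, 8, 1, 2, 3, 4, 5, 6, 8, 1, 2, 3, 4, 5, 6, 8, 7, 6, 5, 4, 3, 2, 1, 0, 8, 3, 2, 1, 4, 3, 5, 9, 8, 3, 2, 1, 4, 3, 2, 5, 4, 6, 5, 8, 3, 4, 5, 9, 8, 3, 2, 1, 0]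

/-- A word maps the set into itself. -/
noncomputable def maps (w : List ℕ) : Bool :=
  w.all (fun g => Nat.blt g 10) && dList.all fun d => dBits.testBit (fwalk w d)

/-- The words keeping the set. -/
def keepList : List (List ℕ) := [kWord0, kWord1, kWord2, kWord3, kWord4, kWord5, kWord6, kWord7, kWord8, kWord9, kWord10, kWord11, kWord12, kWord13, kWord14, kWord15, kWord16, kWord17, kWord18, kWord19, kWord20, kWord21]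

end CfsgLib.Fi23P.NThree
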