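import Cfsg.Agent.Lib.Fi23P.NThree.Card
import Cfsg.Agent.Lib.Fi23P.NThree.Edge

/-!
The stabiliser of the set is maximal and has derived length at least ten.
-/

set_option autoImplicit false
set_option maxRecDepth 100000

namespace CfsgLib.Fi23P.NThree

open CfsgLib.PresCert Cfsg.Spor

attribute [local irreducible] relShort levels wordA rootWords baseL dBits chain dList mLevels
  sixList wordThree derData genPaths genCert edgeWords orbRec

theorem act_ne_one {w : List ℕ} (hl : ∀ g ∈ w, g < 10) (h : sameBase w [] = false) :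
    act fiGen w ≠ 1 := by
  intro e
  have hs : sameBase w [] = true := by
    simp only [sameBase, Bool.and_eq_true, List.all_eq_true, Nat.beq_eq, Nat.blt_eq]
    refine ⟨⟨fun b hb => ?_, hl⟩, fun g hg => absurd hg List.not_mem_nil⟩
    have hb2 : b < tab.n := by
      have h' : baseL.all (fun b => Nat.blt b tab.n) = true := by decide +kernel
      exact Nat.blt_eq.mp (List.all_eq_true.1 h' b hb)
    have := congrArg (fun z => ((phi z ⟨b, hb2⟩ : Fin tab.n) : ℕ)) e
    simpa [realised.act_apply hl, Fast.Tab.walk] using this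
  rw [hs] at h
  exact Bool.noConfusion h

/-- The derived series inside the whole group. -/
noncomputable def derM (k : ℕ) : Subgroup Cfsg.Spor.Fi23 :=
  (derivedSeries grpM k).map grpM.subtype

/-- The words of a level of the derived series. -/
noncomputable def derAt (k : ℕ) : List (List ℕ × List (ℕ × ℕ)) := derData.getD k []

theorem derM_mem : ∀ k ≤ 9, ∀ e ∈ derAt k, (∀ g ∈ e.1, g < 10) ∧ act fiGen e.1 ∈ derM k
  | 0, _, e, he => by
    have h := List.all_eq_true.1 der_shape.2.1 e he
    obtain ⟨hM, hl⟩ := kept_grpM h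
    exact ⟨hl, ⟨⟨_, hM⟩, Subgroup.mem_top _, rfl⟩⟩
  | k + 1, hk, e, he => by
    have h := List.all_eq_true.1 (List.all_eq_true.1 der_shape.2.2.1 k
      (List.mem_range.2 (by omega))) e he
    simp only [Bool.and_eq_true, List.all_eq_true, Nat.blt_eq] at h
    obtain ⟨hl, hb⟩ := h
    refine ⟨hl, ?_⟩
    rw [eq_of_base hb]
    have ih := derM_mem k (by omega)
    have hget : ∀ i, (∀ g ∈ ((derAt k).getD i ([], [])).1, g < 10) ∧
        act fiGen ((derAt k).getD i ([], [])).1 ∈ derM k := by
      intro i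
      by_cases hi : i < (derAt k).length
      · rw [List.getD_eq_getElem _ _ hi]; exact ih _ (List.getElem_mem hi)
      · rw [List.getD_eq_default _ _ (Nat.le_of_not_lt hi)]
        exact ⟨fun g hg => absurd hg List.not_mem_nil, by rw [act_nil]; exact Subgroup.one_mem _⟩
    have hcomm : ∀ p, act fiGen (commWord (derAt k) p) ∈ derM (k + 1) := by
      intro p
      obtain ⟨hla, a, ha, ea⟩ := hget p.1
      obtain ⟨hlb, b, hb, eb⟩ := hget p.2
      rw [commWord, act_append, act_append, act_append, act_reverse fiGen_sq hla,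
        act_reverse fiGen_sq hlb, ← ea, ← eb]
      refine ⟨a * b * a⁻¹ * b⁻¹, Subgroup.commutator_mem_commutator ha hb, ?_⟩
      simp [mul_assoc]
    show act fiGen (commProd (derAt k) e.2) ∈ _
    induction e.2 with
    | nil => rw [commProd]; simp [act_nil]
    | cons p l ihl =>
      rw [commProd, List.map_cons, List.reverse_cons, List.flatten_append, act_append]
      refine Subgroup.mul_mem _ ?_ ihl
      simpa using hcomm p

theorem derived_ten : derivedSeries grpM 10 ≠ derivedSeries grpM 9 := by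
  intro e
  obtain ⟨n, hn⟩ := (Group.isSolvable_def grpM).1 grpM_solvable
  have hst : ∀ j, derivedSeries grpM (9 + j) = derivedSeries grpM 9 := by
    intro j
    induction j with
    | zero => rfl
    | succ j ih => rw [← add_assoc, derivedSeries_succ, ih, ← derivedSeries_succ, e]
  have h9 : derivedSeries grpM 9 = ⊥ := by
    rw [← hst n, eq_bot_iff]
    exact (derivedSeries_antitone grpM (by omega : n ≤ 9 + n)).trans hn.le
  have hne : (derData.getD 9 []).getD 0 ([], []) ∈ derAt 9 := by
    have hlen : 0 < (derData.getD 9 []).length := by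
      have h' : Nat.blt 0 (derData.getD 9 []).length = true := by decide +kernel
      exact Nat.blt_eq.mp h'
    rw [derAt, List.getD_eq_getElem _ _ hlen]
    exact List.getElem_mem _
  obtain ⟨hl, hm⟩ := derM_mem 9 le_rfl _ hne
  rw [derM, h9, Subgroup.map_bot, Subgroup.mem_bot] at hm
  exact act_ne_one hl der_shape.2.2.2 hm

theorem t_mem : eltT ∈ grpM := (keeps_grpM t_keeps).1

theorem refP_mem {d : Fin tab.n} (hd : inD d) : refP d ∈ grpM := by
  obtain ⟨h1, h2, -, hreach⟩ := level_mem (k := 0) (by norm_num)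
  have h0 : (pt 0).x = 0 := Nat.eq_of_beq_eq_true (by decide +kernel)
  have hmem : d.val ∈ (mLevels.getD 0 ⟨0, [], [], []⟩).pts := by
    rw [← testBit_orBits, ← h1, cls, testBit_side _ _ d.isLt]
    rw [show dBits.testBit (pt 0).x = true by decide +kernel]
    exact hd
  obtain ⟨g, hg, e⟩ := (hreach _ hmem).2
  have hd' : d = phi g origin := Fin.ext (by
    rw [← e, show origin = ptF 0 (by norm_num) from Fin.ext h0.symm])
  rw [hd', ← refP_conj, refP_origin]
  have hgM : g ∈ grpM := (Subgroup.mem_inf.1 hg).1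
  exact Subgroup.mul_mem _ (Subgroup.mul_mem _ hgM t_mem) (Subgroup.inv_mem _ hgM)

theorem edge_part : ∀ c < 8, (List.range 4).all (fun i => edgeBlock (4 * c + i)) = true := by
  intro c hc
  interval_cases c
  exacts [edge_0, edge_1, edge_2, edge_3, edge_4, edge_5, edge_6, edge_7]

theorem edges_all : ∀ b < 32, edgeBlock b = true := by
  intro b hb
  rw [← Nat.div_add_mod b 4]
  exact (List.all_eq_true.1 (edge_part (b / 4) (by omega))) (b % 4)
    (List.mem_range.2 (Nat.mod_lt _ (by norm_num)))

theorem roots_ok : (List.range 2).all (fun k => Nat.blt (outRoots.getD k 0) 31671) = true := by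
  decide +kernel

/-- A point outside the set is joined to the representative of its class. -/
theorem out_reach (p : Fin tab.n) (hp : ¬ inD p) :
    oLab p.val < 2 ∧ ∃ r : Fin tab.n, r.val = outRoots.getD (oLab p.val) 0 ∧
      ∃ m ∈ grpM, phi m r = p := by
  suffices H : ∀ d, ∀ p : Fin tab.n, oDepth p.val = d → ¬ inD p →
      oLab p.val < 2 ∧ ∃ r : Fin tab.n, r.val = outRoots.getD (oLab p.val) 0 ∧
        ∃ m ∈ grpM, phi m r = p from H _ p rfl hp
  intro d
  induction d using Nat.strong_induction_on with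
  | h d ih =>
    intro p hd hp
    have hr : p.val < 31671 := p.isLt
    have hb := edges_all (p.val / 1000) (by omega)
    simp only [edgeBlock, List.all_eq_true, List.mem_range, Bool.or_eq_true, Bool.and_eq_true,
      Bool.not_eq_true', Nat.blt_eq, Nat.beq_eq] at hb
    have h' := hb (p.val % 1000) (Nat.mod_lt _ (by norm_num))
    rw [Nat.div_add_mod] at h'
    rcases h' with (h | h) | ⟨h2, h3⟩
    · rw [show Nat.blt p.val 31671 = true by rw [Nat.blt_eq]; exact hr] at h
      exact Bool.noConfusion h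
    · exact absurd h hp
    refine ⟨h2, ?_⟩
    rcases h3 with h0 | ⟨⟨⟨⟨⟨a, b⟩, c⟩, e⟩, f⟩, g⟩
    · exact ⟨p, h0, 1, Subgroup.one_mem _, by simp⟩
    · obtain ⟨-, r, hr', m, hm, hmr⟩ := ih _ (hd ▸ a) ⟨oParent p.val, b⟩ rfl
        (by rw [inD, c]; decide)
      have hw : edgeWords.getD (oVia p.val) [] ∈ edgeWords := by
        rw [List.getD_eq_getElem _ _ f]; exact List.getElem_mem f
      obtain ⟨hwM, hwl⟩ := kept_grpM ((List.all_eq_true.1 edge_keeps _ hw))
      refine ⟨r, by rw [hr', e], act fiGen (edgeWords.getD (oVia p.val) []) * m,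
        Subgroup.mul_mem _ hwM hm, Fin.ext ?_⟩
      rw [map_mul, Equiv.Perm.mul_apply, hmr, realised.act_apply hwl, ← fwalk_eq]
      exact g

theorem refP_word {w : List ℕ} (hl : ∀ g ∈ w, g < 10) {q : Fin tab.n}
    (he : fwalk w 0 = q.val) : act fiGen (transWord w) = refP q := by
  have hm : phi (act fiGen w) origin = q := Fin.ext (by
    rw [realised.act_apply hl, ← fwalk_eq]; exact he)
  rw [refP_of hm, transWord, act_append, act_append, act_reverse fiGen_sq hl, eltT, mul_assoc]

theorem transWord_lt {w : List ℕ} (hl : ∀ g ∈ w, g < 10) : ∀ g ∈ transWord w, g < 10 := by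
  intro g hg
  simp only [transWord, List.mem_append, List.mem_reverse] at hg
  rcases hg with (h | h) | h
  exacts [hl g h, wordT_lt g h, hl g h]

/-- A group over the stabiliser with one more transposition is everything. -/
theorem union_top {K : Subgroup Cfsg.Spor.Fi23} (hK : grpM ≤ K) {x : Fin tab.n} (hx : ¬ inD x)
    (hmem : refP x ∈ K) : K = ⊤ := by
  obtain ⟨hk, r, hr, m, hm, hmx⟩ := out_reach x hx
  set k := oLab x.val with hkdef
  have hroot : refP r ∈ K := by
    have : refP r = m⁻¹ * refP x * m⁻¹⁻¹ := by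
      rw [refP_conj, ← hmx, ← Equiv.Perm.mul_apply, ← map_mul, inv_mul_cancel, map_one,
        Equiv.Perm.one_apply]
    rw [this]
    exact Subgroup.mul_mem _ (Subgroup.mul_mem _ (Subgroup.inv_mem _ (hK hm)) hmem)
      (Subgroup.inv_mem _ (Subgroup.inv_mem _ (hK hm)))
  have hunion : ∀ q : Fin tab.n, inUnion k q.val = true → refP q ∈ K := by
    intro q hq
    simp only [inUnion, Bool.and_eq_true, Bool.or_eq_true, Nat.beq_eq] at hq
    by_cases hqD : inD q
    · exact hK (refP_mem hqD)
    · obtain ⟨-, r', hr', n, hn, hnq⟩ := out_reach q hqD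
      rw [hq.2.resolve_left hqD] at hr'
      rw [show r' = r from Fin.ext (hr'.trans hr.symm)] at hnq
      rw [← hnq, ← refP_conj]
      exact Subgroup.mul_mem _ (Subgroup.mul_mem _ (hK hn) hroot) (Subgroup.inv_mem _ (hK hn))
  rw [← top_le_iff, ← closure_all, genGrp, Subgroup.closure_le]
  rintro _ ⟨w, hw, rfl⟩
  obtain ⟨j, hj, rfl⟩ := List.mem_map.1 hw
  rw [List.mem_range] at hj
  have hp := List.all_eq_true.1 gen_words.2 j (List.mem_range.2 hj)
  simp only [Bool.and_eq_true, Nat.blt_eq, Nat.beq_eq] at hp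
  obtain ⟨⟨hp1, hp2⟩, hp3⟩ := hp
  have hpl : ∀ g ∈ (genPaths.getD j (0, [])).2, g < 10 := by
    have h3 := hp3
    simp only [sameBase, Bool.and_eq_true, List.all_eq_true, Nat.blt_eq] at h3
    intro g hg
    exact h3.2 g (List.mem_append_right _ hg)
  set p : Fin tab.n := ⟨(genPaths.getD j (0, [])).1, hp1⟩ with hpdef
  show act fiGen [j] ∈ K
  rw [eq_of_base hp3, refP_word hpl (q := p) hp2]
  have hc := List.all_eq_true.1 (List.all_eq_true.1 gen_cert k (List.mem_range.2 hk)) j
    (List.mem_range.2 hj)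
  simp only [genOk] at hc
  rcases hg : (genCert.getD k []).getD j none with _ | ⟨u, path, v⟩
  · rw [hg] at hc
    exact hunion p hc
  · rw [hg] at hc
    simp only [Bool.and_eq_true, List.all_eq_true, Nat.blt_eq, Nat.beq_eq] at hc
    obtain ⟨⟨⟨⟨hl, hu⟩, hU⟩, hV⟩, hw'⟩ := hc
    have hul : u < tab.n := by
      simp only [inUnion, Bool.and_eq_true, Nat.blt_eq] at hU; exact hU.1
    have hvl : v < tab.n := by
      simp only [inUnion, Bool.and_eq_true, Nat.blt_eq] at hV; exact hV.1
    have hu' := refP_word hl (q := ⟨u, hul⟩) hu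
    have e : phi (act fiGen (transWord path)) ⟨v, hvl⟩ = p := Fin.ext (by
      rw [realised.act_apply (transWord_lt hl), ← fwalk_eq]; exact hw')
    rw [← e, ← refP_conj, hu']
    exact Subgroup.mul_mem _ (Subgroup.mul_mem _ (hunion _ hU) (hunion _ hV))
      (Subgroup.inv_mem _ (hunion _ hU))

theorem grpM_coatom : IsCoatom grpM := by
  refine ⟨fun h => ?_, fun K hK => ?_⟩
  · have hm : act fiGen [0] ∈ grpM := h ▸ Subgroup.mem_top _
    have hk : keeps [0] = true := by
      simp only [keeps, Bool.and_eq_true, List.all_eq_true]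
      refine ⟨fun g hg => by simp only [List.mem_singleton] at hg; subst hg; rfl, fun d hd => ?_⟩
      have hdl : d < tab.n := Nat.blt_eq.mp (List.all_eq_true.1 set_bits.2.2 d hd)
      have hD : inD ⟨d, hdl⟩ := by rw [inD, ← set_eq, testBit_orBits]; exact hd
      have := (hm ⟨d, hdl⟩).2 hD
      rw [inD, realised.act_apply (by decide), ← fwalk_eq] at this
      exact ⟨this, this⟩
    exact Bool.noConfusion (hk.symm.trans proper_word.2)
  · obtain ⟨hle, hne⟩ := lt_iff_le_and_ne.1 hK
    obtain ⟨g, hgK, hgM⟩ : ∃ g ∈ K, g ∉ grpM := by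
      by_contra hc
      push Not at hc
      exact hne (le_antisymm hle hc)
    obtain ⟨p, hp⟩ : ∃ p, ¬ (inD (phi g p) ↔ inD p) := by
      by_contra hc
      push Not at hc
      exact hgM hc
    by_cases hpD : inD p
    · have hx : ¬ inD (phi g p) := fun h' => hp ⟨fun _ => hpD, fun _ => h'⟩
      refine union_top hle hx ?_
      rw [← refP_conj]
      exact Subgroup.mul_mem _ (Subgroup.mul_mem _ hgK (hle (refP_mem hpD)))
        (Subgroup.inv_mem _ hgK)
    · have hy : inD (phi g p) := by
        by_contra h'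
        exact hp ⟨fun h => absurd h h', fun h => absurd h hpD⟩
      refine union_top hle hpD ?_
      have e : refP p = g⁻¹ * refP (phi g p) * g⁻¹⁻¹ := by
        rw [refP_conj, ← Equiv.Perm.mul_apply, ← map_mul, inv_mul_cancel, map_one,
          Equiv.Perm.one_apply]
      rw [e]
      exact Subgroup.mul_mem _ (Subgroup.mul_mem _ (Subgroup.inv_mem _ hgK) (hle (refP_mem hy)))
        (Subgroup.inv_mem _ (Subgroup.inv_mem _ hgK))

/-- The witness. -/
theorem witness :
    ∃ (G : Type) (_ : Group G) (_ : Finite G) (S H : Subgroup G), S.Normal ∧ IsSimpleGroup S ∧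
      ¬ IsMulCommutative S ∧ Subgroup.centralizer (S : Set G) = ⊥ ∧ IsCoatom H ∧
        derivedSeries H 10 ≠ derivedSeries H 9 := by
  haveI := card_fi.1
  haveI := simple
  have hnc : ¬ ∀ a b : Cfsg.Spor.Fi23, a * b = b * a := by
    intro h
    have h01 := h (fiGen 0) (fiGen 1)
    have := act_ne_one (w := [0, 1, 0, 1]) (by decide) proper_word.1
    apply this
    rw [act_cons, act_cons, act_cons, act_cons, act_nil, one_mul]
    calc fiGen 1 * fiGen 0 * fiGen 1 * fiGen 0
        = fiGen 1 * (fiGen 0 * fiGen 1) * fiGen 0 := by group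
      _ = fiGen 1 * (fiGen 1 * fiGen 0) * fiGen 0 := by rw [h01]
      _ = (fiGen 1 * fiGen 1) * (fiGen 0 * fiGen 0) := by group
      _ = 1 := by rw [fiGen_sq 1 (by norm_num), fiGen_sq 0 (by norm_num), one_mul]
  refine ⟨Cfsg.Spor.Fi23, inferInstance, inferInstance, ⊤, grpM, inferInstance, ?_, ?_, ?_,
    grpM_coatom, derived_ten⟩
  · exact Subgroup.topEquiv.isSimpleGroup
  · intro h
    exact hnc fun a b => congrArg Subtype.val
      (isMulCommutative_iff.1 h ⟨a, Subgroup.mem_top a⟩ ⟨b, Subgroup.mem_top b⟩)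
  · rw [Subgroup.coe_top, Subgroup.centralizer_univ]
    rcases Subgroup.Normal.eq_bot_or_eq_top (H := Subgroup.center Cfsg.Spor.Fi23) inferInstance with h | h
    · exact h
    · exact absurd (fun a b => (Subgroup.mem_center_iff.1 (h ▸ Subgroup.mem_top b) a)) hnc

end CfsgLib.Fi23P.NThree
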